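import Cfsg.Agent.Lib.A6Rec.Basic

/-!
# The action on 10 Sylow 3-subgroups: a Zassenhaus group of degree 10

Every involution fixes exactly two points, and two points determine an involution.
-/

set_option autoImplicit false

namespace Cfsg.Agent.Lib.A6Rec

open Subgroup Cfsg.Agent.Lib.SmallSimple

variable {G : Type*} [Group G] [Finite G] [IsSimpleGroup G]

theorem sign_eq_one (hG : Nat.card G = 360) [Fintype (Sylow 3 G)] [DecidableEq (Sylow 3 G)] (g : G) :
    Equiv.Perm.sign (MulAction.toPermHom G (Sylow 3 G) g) = 1 := by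
  have h := ker_eq_top_of_comm (noncomm hG) (Equiv.Perm.sign.comp (MulAction.toPermHom G (Sylow 3 G)))
  have h1 : g ∈ (Equiv.Perm.sign.comp (MulAction.toPermHom G (Sylow 3 G))).ker := h ▸ Subgroup.mem_top g
  exact h1

theorem exists_ne_sylow (hG : Nat.card G = 360) (P : Sylow 3 G) : ∃ Q : Sylow 3 G, P ≠ Q := by
  haveI : Nontrivial (Sylow 3 G) := by
    apply Finite.one_lt_card_iff_nontrivial.mp
    rw [card_syl hG]
    norm_num
  obtain ⟨Q, hQ⟩ := exists_ne P
  exact ⟨Q, hQ.symm⟩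

theorem eq_one_of_forall_smul (hG : Nat.card G = 360) {g : G} (h : ∀ R : Sylow 3 G, g • R = R) : g = 1 := by
  have hinj : Function.Injective (MulAction.toPermHom G (Sylow 3 G)) := by
    apply injective_of_ker_ne_top
    intro htop
    obtain ⟨P⟩ : Nonempty (Sylow 3 G) := inferInstance
    obtain ⟨Q, hQ⟩ := exists_ne_sylow hG P
    obtain ⟨x, hx⟩ := MulAction.exists_smul_eq G P Q
    have h1 : x ∈ (MulAction.toPermHom G (Sylow 3 G)).ker := htop ▸ Subgroup.mem_top x
    rw [MonoidHom.mem_ker] at h1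
    have h2 : (MulAction.toPermHom G (Sylow 3 G) x) P = P := by rw [h1]; rfl
    exact hQ (hx ▸ h2.symm)
  apply hinj
  rw [map_one]
  apply Equiv.ext
  intro R
  exact h R

theorem smul_inj (hG : Nat.card G = 360) {P Q : Sylow 3 G} (hne : P ≠ Q) {p p' : G}
    (hp : p ∈ (P : Subgroup G)) (hp' : p' ∈ (P : Subgroup G)) (h : p • Q = p' • Q) : p = p' := by
  have h1 : (p'⁻¹ * p) • Q = Q := by
    rw [mul_smul, h, inv_smul_smul]
  have h2 : p'⁻¹ * p ∈ (P : Subgroup G) := P.1.mul_mem (P.1.inv_mem hp') hp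
  have h3 := mem_of_smul_eq h2 h1
  have h4 : p'⁻¹ * p ∈ (P : Subgroup G) ⊓ (Q : Subgroup G) := ⟨h2, h3⟩
  rw [ti hG hne, Subgroup.mem_bot] at h4
  have h5 : p = p' * (p'⁻¹ * p) := by group
  rw [h5, h4, mul_one]

theorem smul_ne_of_ne {P Q : Sylow 3 G} (hne : P ≠ Q) {p : G} (hp : p ∈ (P : Subgroup G)) : p • Q ≠ P := by
  intro h
  apply hne
  have h1 : p⁻¹ • P = P := smul_self_of_mem (P.1.inv_mem hp)
  have h2 := inv_smul_smul p Q
  rw [h, h1] at h2
  exact h2

theorem exists_smul (hG : Nat.card G = 360) {P Q R : Sylow 3 G} (hne : P ≠ Q) (hR : R ≠ P) :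
    ∃ p ∈ (P : Subgroup G), p • Q = R := by
  classical
  let f : ↥(P : Subgroup G) → {R : Sylow 3 G // R ≠ P} := fun p => ⟨p.1 • Q, smul_ne_of_ne hne p.2⟩
  have hinj : Function.Injective f := by
    intro x y hxy
    have h := congrArg Subtype.val hxy
    exact Subtype.ext (smul_inj hG hne x.2 y.2 h)
  have hcard : Nat.card {R : Sylow 3 G // R ≠ P} = 9 := by
    have h5 := Set.ncard_add_ncard_compl ({P} : Set (Sylow 3 G))
    rw [Set.ncard_singleton, card_syl hG] at h5
    have h6 : ({P} : Set (Sylow 3 G))ᶜ = {R | R ≠ P} := by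
      ext R; simp
    rw [h6] at h5
    have h7 : Nat.card {R : Sylow 3 G // R ≠ P} = ({R | R ≠ P} : Set (Sylow 3 G)).ncard := by
      rw [← Nat.card_coe_set_eq]
      rfl
    omega
  have hbij : Function.Bijective f :=
    (Nat.bijective_iff_injective_and_card f).mpr ⟨hinj, by rw [hcard, card_sylow3 hG P]⟩
  obtain ⟨p, hp⟩ := hbij.2 ⟨R, hR⟩
  exact ⟨p.1, p.2, congrArg Subtype.val hp⟩

theorem card_T2_le (hG : Nat.card G = 360) {P Q : Sylow 3 G} (hne : P ≠ Q) : Nat.card (T2 P Q) ≤ 4 := by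
  let f : ↥(P : Subgroup G) × ↥(T2 P Q) → normalizer (P : Set G) := fun x =>
    ⟨x.1.1 * x.2.1, (normalizer (P : Set G)).mul_mem (Subgroup.le_normalizer x.1.2)
      (Subgroup.mem_inf.mp x.2.2).1⟩
  have hinj : Function.Injective f := by
    rintro ⟨⟨p, hp⟩, ⟨t, ht⟩⟩ ⟨⟨p', hp'⟩, ⟨t', ht'⟩⟩ hxy
    have h : p * t = p' * t' := congrArg Subtype.val hxy
    have h1 : p'⁻¹ * p = t' * t⁻¹ := by
      calc p'⁻¹ * p = p'⁻¹ * (p * t) * t⁻¹ := by group
        _ = p'⁻¹ * (p' * t') * t⁻¹ := by rw [h]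
        _ = t' * t⁻¹ := by group
    have h2 : t' * t⁻¹ ∈ T2 P Q := (T2 P Q).mul_mem ht' ((T2 P Q).inv_mem ht)
    have h3 : p'⁻¹ * p ∈ (P : Subgroup G) := P.1.mul_mem (P.1.inv_mem hp') hp
    have h4 : p'⁻¹ * p ∈ (Q : Subgroup G) := by
      apply mem_of_smul_eq h3
      rw [h1]
      exact (mem_T2.mp h2).2
    have h5 : p'⁻¹ * p ∈ (P : Subgroup G) ⊓ (Q : Subgroup G) := ⟨h3, h4⟩
    rw [ti hG hne, Subgroup.mem_bot] at h5
    have h6 : p = p' := by
      have h7 : p = p' * (p'⁻¹ * p) := by group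
      rw [h7, h5, mul_one]
    have h8 : t = t' := by
      subst h6
      exact mul_left_cancel h
    subst h6
    subst h8
    rfl
  have h1 := Nat.card_le_card_of_injective f hinj
  rw [Nat.card_prod, card_sylow3 hG P, show Nat.card (normalizer (P : Set G)) = 36 from card_norm hG P] at h1
  omega

theorem card_T2 (hG : Nat.card G = 360) {P Q : Sylow 3 G} (hne : P ≠ Q) : Nat.card (T2 P Q) = 4 :=
  le_antisymm (card_T2_le hG hne) (card_T2_ge hG hne)

/-- An element fixing two points permutes the other points like its conjugation on `P`. -/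
theorem smul_smul_T2 {Q : Sylow 3 G} {g p : G} (hg : g • Q = Q) : g • (p • Q) = (g * p * g⁻¹) • Q := by
  rw [mul_smul, mul_smul, show g⁻¹ • Q = Q from by rw [inv_smul_eq_iff, hg]]

theorem conj_mem {P : Sylow 3 G} {g p : G} (hg : g • P = P) (hp : p ∈ (P : Subgroup G)) :
    g * p * g⁻¹ ∈ (P : Subgroup G) := by
  have h7 : g ∈ MulAction.stabilizer G P := hg
  rw [Sylow.stabilizer_eq_normalizer] at h7
  have h8 : g ∈ normalizer ((P : Subgroup G) : Set G) := h7
  rw [Subgroup.mem_normalizer_iff] at h8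
  exact (h8 p).mp hp

end Cfsg.Agent.Lib.A6Rec
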