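import Mathlib
import Cfsg.Agent.Lib.SmallSimple.Sylow
import Cfsg.Agent.Lib.SmallSimple.Intersect
import Cfsg.Agent.Lib.Struct.SylowTwoP
import Cfsg.Agent.Lib.Recog.CosetA5

/-!
# A simple group of order 360 acts on its 10 Sylow 3-subgroups as a Zassenhaus group

Sylow 3-subgroups are trivial-intersection subgroups of order 9 and there are 10 of them.
-/

set_option autoImplicit false

namespace Cfsg.Agent.Lib.A6Rec

open Subgroup Cfsg.Agent.Lib.SmallSimple

variable {G : Type*} [Group G] [Finite G] [IsSimpleGroup G]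

theorem noncomm (hG : Nat.card G = 360) : ¬ IsMulCommutative G :=
  not_comm_of_not_prime (by rw [hG]; norm_num)

theorem not_pgroup (hG : Nat.card G = 360) : ¬ IsPGroup 3 G :=
  not_isPGroup_of_dvd (q := 2) (by norm_num) (by norm_num) (by norm_num) (by rw [hG]; norm_num) 

theorem index_ge (hG : Nat.card G = 360) (H : Subgroup G) (hH : H ≠ ⊤) : 6 ≤ H.index := by
  have h := two_mul_card_dvd_factorial (noncomm hG) H hH
  rw [hG] at h
  by_contra hlt
  have h1 : H.index ≤ 5 := by omega
  have h2 : H.index.factorial ≤ Nat.factorial 5 := Nat.factorial_le h1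
  have h3 := Nat.le_of_dvd (Nat.factorial_pos _) h
  have h4 : Nat.factorial 5 = 120 := by decide
  omega

theorem card_sylow3 (hG : Nat.card G = 360) (P : Sylow 3 G) : Nat.card (P : Subgroup G) = 9 :=
  sylow_card_of_eq (a := 2) (m := 40) P (by rw [hG]; norm_num) (by norm_num)

theorem sylow3_comm (hG : Nat.card G = 360) (P : Sylow 3 G) {x y : G} (hx : x ∈ (P : Subgroup G))
    (hy : y ∈ (P : Subgroup G)) : x * y = y * x := by
  have h9 : Nat.card (P : Subgroup G) = 3 ^ 2 := by rw [card_sylow3 hG P]; norm_num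
  have hcomm := IsPGroup.commutative_of_card_eq_prime_sq (p := 3) (G := (P : Subgroup G)) h9
  exact congrArg Subtype.val (hcomm ⟨x, hx⟩ ⟨y, hy⟩)

theorem card_syl (hG : Nat.card G = 360) : Nat.card (Sylow 3 G) = 10 := by
  have hcard : Nat.card G = 3 ^ 2 * 40 := by rw [hG]; norm_num
  obtain ⟨h1, h2, h3, h4⟩ := sylow_package hcard (by norm_num) (by norm_num) (not_pgroup hG) (noncomm hG)
  obtain ⟨P⟩ : Nonempty (Sylow 3 G) := inferInstance
  have hPcard := card_sylow3 hG P
  have hNc := card_normalizer_mul_card_sylow 3 P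
  rw [hG] at h4 hNc
  have hle := Nat.le_of_dvd (by norm_num) h2
  generalize hm : Nat.card (Sylow 3 G) = n at *
  have hd : n = 4 ∨ n = 10 ∨ n = 40 := by
    interval_cases n <;> first | omega | (exfalso; revert h2; decide)
  rcases hd with rfl | rfl | rfl
  · exfalso; revert h4; decide
  · rfl
  · exfalso
    have hNP : normalizer (P : Set G) = P := by
      symm
      apply Subgroup.eq_of_le_of_card_ge Subgroup.le_normalizer
      rw [hPcard]
      have : Nat.card (normalizer (P : Set G)) = 9 := by omega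
      exact this.le
    apply normalizer_not_le_centralizer (p := 3) (by rw [hG]; norm_num) (not_pgroup hG) P
    rw [hNP]
    intro x hx
    rw [Subgroup.mem_centralizer_iff]
    intro y hy
    exact sylow3_comm hG P hy hx

theorem card_norm (hG : Nat.card G = 360) (P : Sylow 3 G) : Nat.card (normalizer (P : Set G)) = 36 := by
  have hNc := card_normalizer_mul_card_sylow 3 P
  rw [card_syl hG, hG] at hNc
  omega

/-- The stabilizer of two points. -/
def T2 (P Q : Sylow 3 G) : Subgroup G := normalizer (P : Set G) ⊓ normalizer (Q : Set G)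

theorem mem_T2 {P Q : Sylow 3 G} {g : G} : g ∈ T2 P Q ↔ g • P = P ∧ g • Q = Q := by
  have h : ∀ R : Sylow 3 G, g ∈ normalizer (R : Set G) ↔ g • R = R := by
    intro R
    rw [← Sylow.stabilizer_eq_normalizer, MulAction.mem_stabilizer_iff]
  rw [T2, Subgroup.mem_inf, h, h]

/-- The two-point stabilizer has order at least 4. -/
theorem card_T2_ge (hG : Nat.card G = 360) {P Q : Sylow 3 G} (hne : P ≠ Q) : 4 ≤ Nat.card (T2 P Q) := by
  classical
  let H := normalizer (P : Set G)
  have h1 : (MulAction.stabilizer H Q).index = (MulAction.orbit H Q).ncard := MulAction.index_stabilizer H Q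
  have h2 : (MulAction.orbit H Q).ncard ≤ 9 := by
    have hsub : MulAction.orbit H Q ⊆ {R | R ≠ P} := by
      rintro _ ⟨⟨h, hh⟩, rfl⟩
      intro heq
      have hh' : h • P = P := by
        have : h ∈ MulAction.stabilizer G P := by
          rw [Sylow.stabilizer_eq_normalizer]; exact hh
        exact this
      apply hne
      have : h • Q = h • P := by
        rw [hh']; exact heq
      exact (MulAction.injective h this).symm
    have h3 := Set.ncard_le_ncard hsub (Set.toFinite _)
    have h4 : ({R | R ≠ P} : Set (Sylow 3 G)).ncard = 9 := by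
      have h5 := Set.ncard_add_ncard_compl ({P} : Set (Sylow 3 G))
      rw [Set.ncard_singleton, card_syl hG] at h5
      have h6 : ({P} : Set (Sylow 3 G))ᶜ = {R | R ≠ P} := by
        ext R; simp
      rw [h6] at h5
      omega
    omega
  have h3 := Subgroup.card_mul_index (MulAction.stabilizer H Q)
  have h4 : Nat.card H = 36 := card_norm hG P
  rw [h4, h1] at h3
  have h5 : 4 ≤ Nat.card (MulAction.stabilizer H Q) := by
    by_contra hlt
    have : Nat.card (MulAction.stabilizer H Q) ≤ 3 := by omega
    have := Nat.mul_le_mul this h2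
    omega
  refine h5.trans (Nat.card_le_card_of_injective (fun x => (⟨x.1.1, ?_⟩ : T2 P Q)) ?_)
  · refine Subgroup.mem_inf.mpr ⟨x.1.2, ?_⟩
    have h6 : (x.1 : G) • Q = Q := x.2
    have h7 : (x.1 : G) ∈ MulAction.stabilizer G Q := h6
    rw [Sylow.stabilizer_eq_normalizer] at h7
    exact h7
  · intro x y hxy
    have := congrArg Subtype.val hxy
    exact Subtype.ext (Subtype.ext this)

/-- Normalizer fact: for `x ∈ P`, `x • Q = Q` iff `x ∈ Q`. -/
theorem mem_of_smul_eq {P Q : Sylow 3 G} {x : G} (hx : x ∈ (P : Subgroup G)) (h : x • Q = Q) :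
    x ∈ (Q : Subgroup G) := by
  apply mem_of_mem_normalizer_sylow P Q hx
  have h7 : x ∈ MulAction.stabilizer G Q := h
  rwa [Sylow.stabilizer_eq_normalizer] at h7

theorem smul_self_of_mem {P : Sylow 3 G} {x : G} (hx : x ∈ (P : Subgroup G)) : x • P = P := by
  have h : x ∈ MulAction.stabilizer G P := by
    rw [Sylow.stabilizer_eq_normalizer]
    exact Subgroup.le_normalizer hx
  exact h

theorem le_norm_inf (hG : Nat.card G = 360) (P : Sylow 3 G) (E : Subgroup G) (hE : E ≤ (P : Subgroup G)) :
    (P : Subgroup G) ≤ normalizer (E : Set G) := by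
  intro x hx
  rw [Subgroup.mem_normalizer_iff]
  intro h
  constructor
  · intro hh
    have h1 : x * h * x⁻¹ = h := by
      rw [sylow3_comm hG P hx (hE hh), mul_inv_cancel_right]
    show x * h * x⁻¹ ∈ E
    rw [h1]
    exact hh
  · intro hh
    have hh' : x * h * x⁻¹ ∈ E := hh
    have h0 : x * h * x⁻¹ ∈ (P : Subgroup G) := hE hh'
    have h2 : h ∈ (P : Subgroup G) := by
      have h3 : h = x⁻¹ * (x * h * x⁻¹) * x := by group
      rw [h3]
      exact P.1.mul_mem (P.1.mul_mem (P.1.inv_mem hx) h0) hx
    have h1 : x * h * x⁻¹ = h := by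
      rw [sylow3_comm hG P hx h2, mul_inv_cancel_right]
    rw [h1] at hh'
    exact hh'

/-- Sylow 3-subgroups of a simple group of order 360 are trivial intersection. -/
theorem ti (hG : Nat.card G = 360) {P Q : Sylow 3 G} (hne : P ≠ Q) :
    (P : Subgroup G) ⊓ (Q : Subgroup G) = ⊥ := by
  classical
  by_contra hD
  let D : Subgroup G := (P : Subgroup G) ⊓ (Q : Subgroup G)
  let K : Subgroup G := normalizer (D : Set G)
  have hPK : (P : Subgroup G) ≤ K := le_norm_inf hG P D inf_le_left
  have hQK : (Q : Subgroup G) ≤ K := le_norm_inf hG Q D inf_le_right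
  have hK : K ≠ ⊤ := by
    intro htop
    have hnorm : D.Normal := Subgroup.normalizer_eq_top_iff.mp htop
    rcases IsSimpleGroup.eq_bot_or_eq_top_of_normal D hnorm with h | h
    · exact hD h
    · have h1 : D ≤ (P : Subgroup G) := inf_le_left
      rw [h] at h1
      have h2 := Subgroup.card_le_card_group (P : Subgroup G)
      have h3 : (P : Subgroup G) = ⊤ := top_le_iff.mp h1
      have h4 := card_sylow3 hG P
      rw [h3, Subgroup.card_top, hG] at h4
      omega
  have hKc : Nat.card K ≤ 60 := by
    have h1 := index_ge hG K hK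
    have h2 := Subgroup.card_mul_index K
    rw [hG] at h2
    by_contra hlt
    have : 61 * 6 ≤ Nat.card K * K.index := Nat.mul_le_mul (by omega) h1
    omega
  -- a two-point stabilizer element outside `P`
  obtain ⟨t, ht, htP⟩ : ∃ t ∈ T2 P Q, t ∉ (P : Subgroup G) := by
    by_contra hno
    push Not at hno
    have hle : T2 P Q ≤ D := by
      intro t ht
      refine Subgroup.mem_inf.mpr ⟨hno t ht, ?_⟩
      exact mem_of_smul_eq (hno t ht) (mem_T2.mp ht).2
    have h1 := Nat.card_le_card_of_injective _ (Subgroup.inclusion_injective hle)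
    have h2 := card_T2_ge hG hne
    have h3 : Nat.card D ∣ 9 := by
      rw [← card_sylow3 hG P]
      exact Subgroup.card_dvd_of_le inf_le_left
    have h4 : Nat.card D ≠ 9 := by
      intro h9
      apply hne
      have h5 : D = (P : Subgroup G) := by
        apply Subgroup.eq_of_le_of_card_ge inf_le_left
        rw [card_sylow3 hG P, h9]
      have h6 : (P : Subgroup G) ≤ (Q : Subgroup G) := by
        rw [← h5]
        exact inf_le_right
      exact Sylow.ext (Subgroup.eq_of_le_of_card_ge h6 (by rw [card_sylow3 hG P, card_sylow3 hG Q]))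
    have h5 : Nat.card D ≤ 9 := Nat.le_of_dvd (by norm_num) h3
    have h6 : Nat.card D ≠ 4 ∧ Nat.card D ≠ 5 ∧ Nat.card D ≠ 6 ∧ Nat.card D ≠ 7 ∧ Nat.card D ≠ 8 := by
      refine ⟨?_, ?_, ?_, ?_, ?_⟩ <;> (intro h; rw [h] at h3; revert h3; decide)
    omega
  have htK : t ∈ K := by
    have h1 : t ∈ normalizer ((P : Subgroup G) : Set G) := (Subgroup.mem_inf.mp ht).1
    have h2 : t ∈ normalizer ((Q : Subgroup G) : Set G) := (Subgroup.mem_inf.mp ht).2
    rw [Subgroup.mem_normalizer_iff] at h1 h2 ⊢
    intro h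
    have h3 := h1 h
    have h4 := h2 h
    constructor
    · intro hh
      exact ⟨h3.mp hh.1, h4.mp hh.2⟩
    · intro hh
      exact ⟨h3.mpr hh.1, h4.mpr hh.2⟩
  -- Sylow theory in `K`
  let P' : Sylow 3 K := P.subtype hPK
  let Q' : Sylow 3 K := Q.subtype hQK
  have hne' : P' ≠ Q' := fun h => hne (Sylow.subtype_injective h)
  have hmod := card_sylow_modEq_one 3 K
  have hn : 1 < Nat.card (Sylow 3 K) := by
    haveI : Nontrivial (Sylow 3 K) := ⟨⟨P', Q', hne'⟩⟩
    exact Finite.one_lt_card
  have hn4 : 4 ≤ Nat.card (Sylow 3 K) := by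
    have h1 : Nat.card (Sylow 3 K) % 3 = 1 := hmod
    omega
  let N' : Subgroup K := normalizer ((P' : Subgroup K) : Set K)
  have hcard : Nat.card N' * Nat.card (Sylow 3 K) = Nat.card K := card_normalizer_mul_card_sylow 3 P'
  have hP'c : Nat.card (P' : Subgroup K) = 9 := by
    have h1 : (P' : Subgroup K) = (P : Subgroup G).subgroupOf K := Sylow.coe_subtype P hPK
    rw [h1, Nat.card_congr (Subgroup.subgroupOfEquivOfLe hPK).toEquiv, card_sylow3 hG P]
  have hle : (P' : Subgroup K) ≤ N' := Subgroup.le_normalizer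
  have hdvd : 9 ∣ Nat.card N' := by
    rw [← hP'c]
    exact Subgroup.card_dvd_of_le hle
  have htN : (⟨t, htK⟩ : K) ∈ N' := by
    have h1 : t ∈ normalizer ((P : Subgroup G) : Set G) := (Subgroup.mem_inf.mp ht).1
    rw [Subgroup.mem_normalizer_iff] at h1
    rw [Subgroup.mem_normalizer_iff]
    intro h
    have h2 := h1 h.1
    have h3 : ∀ y : K, y ∈ (P' : Subgroup K) ↔ y.1 ∈ (P : Subgroup G) := by
      intro y
      have h4 : (P' : Subgroup K) = (P : Subgroup G).subgroupOf K := Sylow.coe_subtype P hPK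
      rw [h4, Subgroup.mem_subgroupOf]
    rw [h3, h3]
    exact h2
  have hN18 : 18 ≤ Nat.card N' := by
    have hne9 : Nat.card N' ≠ 9 := by
      intro h9
      have h1 : (P' : Subgroup K) = N' := Subgroup.eq_of_le_of_card_ge hle (by rw [h9, hP'c])
      have h2 : (⟨t, htK⟩ : K) ∈ (P' : Subgroup K) := by
        rw [h1]
        exact htN
      have h4 : (P' : Subgroup K) = (P : Subgroup G).subgroupOf K := Sylow.coe_subtype P hPK
      rw [h4, Subgroup.mem_subgroupOf] at h2
      exact htP h2
    obtain ⟨k, hk⟩ := hdvd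
    have hpos : 0 < Nat.card N' := Nat.card_pos
    rw [hk] at hne9 hpos ⊢
    have hk2 : 2 ≤ k := by
      by_contra hlt
      have hk1 : k = 1 := by omega
      exact hne9 (by rw [hk1])
    omega
  have : 18 * 4 ≤ Nat.card N' * Nat.card (Sylow 3 K) := Nat.mul_le_mul hN18 hn4
  omega

end Cfsg.Agent.Lib.A6Rec
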