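import Mathlib

/-!
# Sign of a permutation of 10 points of type (2,4,4)
-/

set_option autoImplicit false

namespace Cfsg.Agent.Lib.A6Rec

theorem sign_swap_four {X : Type*} [Fintype X] [DecidableEq X] (hX : Fintype.card X = 10) (x : Equiv.Perm X)
    {γ δ : X} (hne : γ ≠ δ) (h4 : x ^ 4 = 1) (h1 : x γ = δ) (h2 : x δ = γ)
    (hfix : ∀ p, x (x p) = p → p = γ ∨ p = δ) : Equiv.Perm.sign x = -1 := by
  let s : Equiv.Perm X := Equiv.swap γ δ
  let y : Equiv.Perm X := x * s
  have hcomm : x * s = s * x := by
    have h := Equiv.swap_apply_apply x γ δ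
    rw [h1, h2, Equiv.swap_comm] at h
    exact mul_inv_eq_iff_eq_mul.mp h.symm
  have hss : s * s = 1 := Equiv.swap_mul_self γ δ
  have hyy : y * y = x * x := by
    show x * s * (x * s) = x * x
    calc x * s * (x * s) = x * (s * x) * s := by group
      _ = x * (x * s) * s := by rw [hcomm]
      _ = x * x * (s * s) := by group
      _ = x * x := by rw [hss, mul_one]
  have hy4 : y ^ 4 = 1 := by
    have : y ^ 4 = (y * y) * (y * y) := by simp only [pow_succ, pow_zero, one_mul, mul_assoc]
    rw [this, hyy]
    have h3 : (x * x) * (x * x) = x ^ 4 := by simp only [pow_succ, pow_zero, one_mul, mul_assoc]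
    rw [h3, h4]
  have hyγ : y γ = γ := by
    show x (s γ) = γ
    rw [show s γ = δ from Equiv.swap_apply_left γ δ, h2]
  have hyδ : y δ = δ := by
    show x (s δ) = δ
    rw [show s δ = γ from Equiv.swap_apply_right γ δ, h1]
  have hsupp : y.support = (Finset.univ.erase γ).erase δ := by
    ext p
    rw [Equiv.Perm.mem_support, Finset.mem_erase, Finset.mem_erase]
    simp only [Finset.mem_univ, and_true]
    constructor
    · intro hp
      refine ⟨?_, ?_⟩
      · rintro rfl
        exact hp hyδ
      · rintro rfl
        exact hp hyγ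
    · rintro ⟨hpδ, hpγ⟩ hp
      have h3 : (y * y) p = p := by
        show y (y p) = p
        rw [hp, hp]
      rw [hyy] at h3
      rcases hfix p h3 with h5 | h5
      · exact hpγ h5
      · exact hpδ h5
  have hcard : y.support.card = 8 := by
    rw [hsupp, Finset.card_erase_of_mem, Finset.card_erase_of_mem (Finset.mem_univ _), Finset.card_univ, hX]
    exact Finset.mem_erase.mpr ⟨hne.symm, Finset.mem_univ _⟩
  have hall : ∀ n ∈ y.cycleType, n = 4 := by
    intro n hn
    have h3 := Equiv.Perm.dvd_of_mem_cycleType hn
    have h5 := Equiv.Perm.two_le_of_mem_cycleType hn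
    have h6 : orderOf y ∣ 4 := orderOf_dvd_of_pow_eq_one hy4
    have h7 : n ∣ 4 := h3.trans h6
    have h8 : n ≤ 4 := Nat.le_of_dvd (by norm_num) h7
    have h9 : n ≠ 3 := by
      rintro rfl
      revert h7
      decide
    have h10 : n ≠ 2 := by
      rintro rfl
      obtain ⟨c, τ, hy, hdisj, hc, hcc⟩ := (Equiv.Perm.mem_cycleType_iff).mp hn
      have hc2 : c ^ 2 = 1 := by
        rw [← hcc, ← hc.orderOf]
        exact pow_orderOf_eq_one c
      obtain ⟨p, hp⟩ : c.support.Nonempty := by
        rw [← Finset.card_pos, hcc]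
        norm_num
      have hτ : ∀ q ∈ c.support, τ q = q := by
        intro q hq
        rcases hdisj q with h | h
        · exact absurd h (Equiv.Perm.mem_support.mp hq)
        · exact h
      have hyq : ∀ q ∈ c.support, y q = c q := by
        intro q hq
        rw [hy, Equiv.Perm.mul_apply, hτ q hq]
      have hcp : c p ∈ c.support := Equiv.Perm.apply_mem_support.mpr hp
      have h11 : c (c p) = p := by
        have : (c ^ 2) p = p := by rw [hc2]; rfl
        rwa [pow_two] at this
      have h12 : (y * y) p = p := by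
        show y (y p) = p
        rw [hyq p hp, hyq _ hcp, h11]
      rw [hyy] at h12
      have h13 : y p = p := by
        rcases hfix p h12 with h5 | h5
        · rw [h5]; exact hyγ
        · rw [h5]; exact hyδ
      rw [hyq p hp] at h13
      exact (Equiv.Perm.mem_support.mp hp) h13
    omega
  have h5 : y.cycleType = Multiset.replicate (Multiset.card y.cycleType) 4 :=
    Multiset.eq_replicate_card.mpr hall
  have h6 : y.cycleType.sum = Multiset.card y.cycleType * 4 := by
    conv_lhs => rw [h5]
    simp
  rw [Equiv.Perm.sum_cycleType, hcard] at h6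
  have h7 : Multiset.card y.cycleType = 2 := by omega
  have h8 : Equiv.Perm.sign y = 1 := by
    rw [Equiv.Perm.sign_of_cycleType, Equiv.Perm.sum_cycleType, hcard, h7]
    decide
  have h9 : Equiv.Perm.sign y = Equiv.Perm.sign x * Equiv.Perm.sign s := map_mul _ _ _
  have h10 : Equiv.Perm.sign s = -1 := Equiv.Perm.sign_swap hne
  rw [h8, h10] at h9
  have h11 : Equiv.Perm.sign x = -1 := by
    have := congrArg (fun u : ℤˣ => u * (-1)) h9
    simpa using this.symm
  exact h11

end Cfsg.Agent.Lib.A6Rec
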