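import Cfsg.Agent.Lib.A6Rec.Invol
import Cfsg.Agent.Lib.A6Rec.Sign

/-!
# The (2,3,5) count in a simple group of order 360
-/

set_option autoImplicit false

namespace Cfsg.Agent.Lib.A6Rec

open Subgroup Cfsg.Agent.Lib.SmallSimple

variable {G : Type*} [Group G] [Finite G] [IsSimpleGroup G]

section count

open scoped Classical

variable [Fintype G] [Fintype (Sylow 3 G)]

/-- The involutions. -/
noncomputable def Inv (G : Type*) [Group G] [Fintype G] : Finset G :=
  Finset.univ.filter (fun a => a ^ 2 = 1 ∧ a ≠ 1)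

/-- The involutions fixing a point. -/
noncomputable def Inv0 (P : Sylow 3 G) : Finset G := (Inv G).filter (fun a => a • P = P)

theorem mem_Inv {a : G} : a ∈ Inv G ↔ a ^ 2 = 1 ∧ a ≠ 1 := by
  simp [Inv]

theorem mem_Inv0 {a : G} {P : Sylow 3 G} : a ∈ Inv0 P ↔ (a ^ 2 = 1 ∧ a ≠ 1) ∧ a • P = P := by
  rw [Inv0, Finset.mem_filter, mem_Inv]

theorem card_erase_syl (hG : Nat.card G = 360) (P : Sylow 3 G) : (Finset.univ.erase P).card = 9 := by
  rw [Finset.card_erase_of_mem (Finset.mem_univ _), Finset.card_univ, ← Nat.card_eq_fintype_card, card_syl hG]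

theorem card_Inv0 (hG : Nat.card G = 360) (P : Sylow 3 G) : (Inv0 P).card = 9 := by
  have hne : ∀ R ∈ Finset.univ.erase P, P ≠ R := fun R hR => (Finset.ne_of_mem_erase hR).symm
  rw [← card_erase_syl hG P]
  symm
  apply Finset.card_bij (fun R hR => (exists_invol hG (hne R hR)).choose)
  · intro R hR
    obtain ⟨h1, h2, h3⟩ := (exists_invol hG (hne R hR)).choose_spec
    exact mem_Inv0.mpr ⟨⟨h1, h2⟩, (mem_T2.mp h3).1⟩
  · intro R hR R' hR' heq
    obtain ⟨h1, h2, h3⟩ := (exists_invol hG (hne R hR)).choose_spec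
    obtain ⟨h1', h2', h3'⟩ := (exists_invol hG (hne R' hR')).choose_spec
    rw [← heq] at h3'
    rcases (invol_core hG h1 h2 (hne R hR) h3).2 R' (mem_T2.mp h3').2 with h | h
    · exact absurd h.symm (hne R' hR')
    · exact h.symm
  · intro a ha
    obtain ⟨⟨h1, h2⟩, h3⟩ := mem_Inv0.mp ha
    obtain ⟨Q, hQ, hQ'⟩ := exists_other_fix hG h1 h2 h3
    have hQe : Q ∈ Finset.univ.erase P := Finset.mem_erase.mpr ⟨hQ.symm, Finset.mem_univ _⟩
    refine ⟨Q, hQe, ?_⟩
    obtain ⟨h4, h5, h6⟩ := (exists_invol hG (hne Q hQe)).choose_spec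
    exact unique_invol hG hQ h4 h5 h1 h2 h6 (mem_T2.mpr ⟨h3, hQ'⟩)

theorem card_fixF_invol (hG : Nat.card G = 360) {a : G} (ha : a ^ 2 = 1) (ha1 : a ≠ 1) : (fixF a).card = 2 := by
  obtain ⟨P, Q, hne, h1, h2⟩ := invol_fix hG ha ha1
  have hT : a ∈ T2 P Q := mem_T2.mpr ⟨h1, h2⟩
  rw [card_fixF hG hne hT, (invol_core hG ha ha1 hne hT).1, Subgroup.card_bot]

theorem two_le_card_fixF (hG : Nat.card G = 360) {a : G} (ha : a ^ 2 = 1) (ha1 : a ≠ 1) : 2 ≤ (fixF a).card :=
  (card_fixF_invol hG ha ha1).ge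

theorem card_Inv (hG : Nat.card G = 360) : (Inv G).card = 45 := by
  have h := Finset.sum_card_bipartiteAbove_eq_sum_card_bipartiteBelow (s := Inv G)
    (t := (Finset.univ : Finset (Sylow 3 G))) (fun a R => a • R = R)
  have h1 : ∀ a ∈ Inv G, (Finset.bipartiteAbove (fun (a : G) (R : Sylow 3 G) => a • R = R) Finset.univ a).card = 2 := by
    intro a ha
    obtain ⟨h2, h3⟩ := mem_Inv.mp ha
    exact card_fixF_invol hG h2 h3
  have h2 : ∀ R ∈ (Finset.univ : Finset (Sylow 3 G)),
      (Finset.bipartiteBelow (fun (a : G) (R : Sylow 3 G) => a • R = R) (Inv G) R).card = 9 := by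
    intro R _
    exact card_Inv0 hG R
  rw [Finset.sum_congr rfl h1, Finset.sum_congr rfl h2, Finset.sum_const, Finset.sum_const, Finset.card_univ,
    ← Nat.card_eq_fintype_card, card_syl hG] at h
  simp only [smul_eq_mul] at h
  omega

theorem card_term_le (hG : Nat.card G = 360) {b : G} {P₀ R : Sylow 3 G} (hb : b ∈ (P₀ : Subgroup G)) (hb1 : b ≠ 1)
    (hR : R ≠ P₀) : ((Inv G).filter (fun a => (a * b) • R = R)).card ≤ 4 := by
  rcases ((Inv G).filter (fun a => (a * b) • R = R)).eq_empty_or_nonempty with h | ⟨a₀, ha₀⟩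
  · rw [h]
    simp
  have hbR : R ≠ b • R := by
    intro h
    have h1 := mem_of_smul_eq hb h.symm
    have h2 : b ∈ (P₀ : Subgroup G) ⊓ (R : Subgroup G) := ⟨hb, h1⟩
    rw [ti hG hR.symm, Subgroup.mem_bot] at h2
    exact hb1 h2
  letI : Fintype ↥(T2 R (b • R)) := Fintype.ofFinite _
  have hsub : (Inv G).filter (fun a => (a * b) • R = R) ⊆
      (Finset.univ : Finset ↥(T2 R (b • R))).image (fun t => a₀ * t.1) := by
    intro a ha
    obtain ⟨ha1, ha2⟩ := Finset.mem_filter.mp ha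
    obtain ⟨ha₀1, ha₀2⟩ := Finset.mem_filter.mp ha₀
    obtain ⟨h1, h2⟩ := mem_Inv.mp ha1
    obtain ⟨h3, h4⟩ := mem_Inv.mp ha₀1
    rw [mul_smul] at ha2 ha₀2
    have hswap : ∀ c : G, c ^ 2 = 1 → c • (b • R) = R → c • R = b • R := by
      intro c hc hcR
      nth_rewrite 1 [← hcR]
      rw [smul_smul, ← pow_two, hc, one_smul]
    have h5 := hswap a h1 ha2
    have h6 := hswap a₀ h3 ha₀2
    have hmem : a₀⁻¹ * a ∈ T2 R (b • R) := by
      refine mem_T2.mpr ⟨?_, ?_⟩
      · rw [mul_smul, h5, inv_smul_eq_iff, h6]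
      · rw [mul_smul, ha2, inv_smul_eq_iff]
        exact ha₀2.symm
    refine Finset.mem_image.mpr ⟨⟨_, hmem⟩, Finset.mem_univ _, ?_⟩
    show a₀ * (a₀⁻¹ * a) = a
    group
  have h1 := Finset.card_le_card hsub
  have h2 := Finset.card_image_le (s := (Finset.univ : Finset ↥(T2 R (b • R)))) (f := fun t => a₀ * t.1)
  rw [Finset.card_univ, ← Nat.card_eq_fintype_card, card_T2 hG hbR] at h2
  omega

theorem exists_fpf (hG : Nat.card G = 360) {b : G} {P₀ : Sylow 3 G} (hb : b ∈ (P₀ : Subgroup G)) (hb3 : b ^ 3 = 1)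
    (hb1 : b ≠ 1) : ∃ a : G, a ^ 2 = 1 ∧ a ≠ 1 ∧ ∀ R : Sylow 3 G, (a * b) • R ≠ R := by
  by_contra hno
  push Not at hno
  have hsum := Finset.sum_card_bipartiteAbove_eq_sum_card_bipartiteBelow (s := Inv G)
    (t := (Finset.univ : Finset (Sylow 3 G))) (fun a R => (a * b) • R = R)
  -- lower bound
  have hlow : 54 ≤ ∑ a ∈ Inv G, (fixF (a * b)).card := by
    rw [← Finset.sum_filter_add_sum_filter_not (Inv G) (fun a => a • P₀ = P₀)]
    have h1 : 9 • 2 ≤ ∑ a ∈ (Inv G).filter (fun a => a • P₀ = P₀), (fixF (a * b)).card := by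
      have h2 : ((Inv G).filter (fun a => a • P₀ = P₀)).card = 9 := card_Inv0 hG P₀
      rw [← h2]
      apply Finset.card_nsmul_le_sum
      intro a ha
      obtain ⟨⟨h3, h4⟩, h5⟩ := mem_Inv0.mp ha
      have hinv : a⁻¹ = a := by
        rw [inv_eq_iff_mul_eq_one, ← pow_two, h3]
      have h6 := inverts hG h3 h4 h5 hb
      rw [hinv] at h6
      have h7 : (a * b) ^ 2 = 1 := by
        rw [pow_two, show a * b * (a * b) = (a * b * a) * b by group, h6]
        group
      have h8 : a * b ≠ 1 := by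
        intro h
        have h9 : a = b⁻¹ := eq_inv_of_mul_eq_one_left h
        rw [h9] at h3
        have h10 : b ^ 2 = 1 := by
          have := congrArg (·⁻¹) h3
          simpa using this
        apply hb1
        have h11 : b = b ^ 3 * (b ^ 2)⁻¹ := by group
        rw [h11, hb3, h10]
        group
      exact two_le_card_fixF hG h7 h8
    have h2 : ((Inv G).filter (fun a => ¬ a • P₀ = P₀)).card = 36 := by
      have h3 := Finset.card_filter_add_card_filter_not (s := Inv G) (fun a => a • P₀ = P₀)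
      have h4 : ((Inv G).filter (fun a => a • P₀ = P₀)).card = 9 := card_Inv0 hG P₀
      rw [card_Inv hG, h4] at h3
      omega
    have h3 : 36 • 1 ≤ ∑ a ∈ (Inv G).filter (fun a => ¬ a • P₀ = P₀), (fixF (a * b)).card := by
      rw [← h2]
      apply Finset.card_nsmul_le_sum
      intro a ha
      obtain ⟨ha1, -⟩ := Finset.mem_filter.mp ha
      obtain ⟨h4, h5⟩ := mem_Inv.mp ha1
      obtain ⟨R, hR⟩ := hno a h4 h5
      exact Finset.card_pos.mpr ⟨R, mem_fixF.mpr hR⟩
    simp only [smul_eq_mul] at h1 h3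
    omega
  -- upper bound
  have hup : ∑ R : Sylow 3 G, ((Inv G).filter (fun a => (a * b) • R = R)).card ≤ 45 := by
    rw [← Finset.add_sum_erase _ _ (Finset.mem_univ P₀)]
    have h1 : ((Inv G).filter (fun a => (a * b) • P₀ = P₀)).card = 9 := by
      rw [← card_Inv0 hG P₀]
      unfold Inv0
      congr 1
      ext a
      simp only [Finset.mem_filter]
      rw [mul_smul, smul_self_of_mem hb]
    have h2 : ∑ R ∈ Finset.univ.erase P₀, ((Inv G).filter (fun a => (a * b) • R = R)).card ≤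
        (Finset.univ.erase P₀).card • 4 := by
      apply Finset.sum_le_card_nsmul
      intro R hR
      exact card_term_le hG hb hb1 (Finset.ne_of_mem_erase hR)
    rw [card_erase_syl hG, smul_eq_mul] at h2
    omega
  have h5 : ∑ a ∈ Inv G, (fixF (a * b)).card =
      ∑ R : Sylow 3 G, ((Inv G).filter (fun a => (a * b) • R = R)).card := hsum
  omega

end count

end Cfsg.Agent.Lib.A6Rec
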