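import Mathlib
import Cfsg.Agent.Lib.Components.Basic
import Cfsg.Agent.Lib.Perm.ZFSign

/-!
# Groups with an involution whose centralizer is dihedral of order 8

The centralizer is a self-normalizing Sylow 2-subgroup; an odd normal subgroup forces
`G = C(z) O(G)`.
-/

set_option autoImplicit false

namespace Cfsg.Agent.Lib.A6Rec

open Subgroup Cfsg

variable {G : Type*} [Group G]

/-- Element-level data of an involution with centralizer dihedral of order 8. -/
structure CZ (z : G) : Prop where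
  hz : z * z = 1
  hz1 : z ≠ 1
  card : Nat.card (centralizer ({z} : Set G)) = 8
  center : ∀ w ∈ centralizer ({z} : Set G), (∀ u ∈ centralizer ({z} : Set G), w * u = u * w) → w ≠ 1 → w = z
  comm : ∀ x ∈ centralizer ({z} : Set G), ∀ u ∈ centralizer ({z} : Set G),
    x * u * x⁻¹ * u⁻¹ = 1 ∨ x * u * x⁻¹ * u⁻¹ = z

theorem self_mem_C (z : G) : z ∈ centralizer ({z} : Set G) := by
  rw [Subgroup.mem_centralizer_singleton_iff]

theorem CZ.ofEquiv {z : G} (hz : orderOf z = 2) (e : centralizer ({z} : Set G) ≃* DihedralGroup 4) : CZ z := by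
  have hcent : ∀ x : DihedralGroup 4, (∀ y, x * y = y * x) → x = 1 ∨ x = DihedralGroup.r 2 := by decide
  have hcomm : ∀ x u : DihedralGroup 4, x * u * x⁻¹ * u⁻¹ = 1 ∨ x * u * x⁻¹ * u⁻¹ = DihedralGroup.r 2 := by decide
  have hz1 : z ≠ 1 := by
    rintro rfl
    simp at hz
  have hzC := self_mem_C z
  have het : e ⟨z, hzC⟩ = DihedralGroup.r 2 := by
    have h1 : ∀ y : DihedralGroup 4, e ⟨z, hzC⟩ * y = y * e ⟨z, hzC⟩ := by
      intro y
      obtain ⟨w, rfl⟩ := e.surjective y
      rw [← map_mul, ← map_mul]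
      congr 1
      apply Subtype.ext
      exact (Subgroup.mem_centralizer_singleton_iff.mp w.2).symm
    rcases hcent _ h1 with h | h
    · exfalso
      apply hz1
      have h2 : (⟨z, hzC⟩ : centralizer ({z} : Set G)) = 1 := by
        apply e.injective
        rw [h, map_one]
      exact congrArg Subtype.val h2
    · exact h
  refine ⟨?_, hz1, ?_, ?_, ?_⟩
  · rw [← pow_two, ← hz]
    exact pow_orderOf_eq_one z
  · rw [Nat.card_congr e.toEquiv, DihedralGroup.nat_card]
  · intro w hw hc hw1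
    have h1 : ∀ y : DihedralGroup 4, e ⟨w, hw⟩ * y = y * e ⟨w, hw⟩ := by
      intro y
      obtain ⟨u, rfl⟩ := e.surjective y
      rw [← map_mul, ← map_mul]
      congr 1
      exact Subtype.ext (hc u.1 u.2)
    rcases hcent _ h1 with h | h
    · exfalso
      apply hw1
      have h2 : (⟨w, hw⟩ : centralizer ({z} : Set G)) = 1 := by
        apply e.injective
        rw [h, map_one]
      exact congrArg Subtype.val h2
    · have h3 : (⟨w, hw⟩ : centralizer ({z} : Set G)) = ⟨z, hzC⟩ := by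
        apply e.injective
        rw [h, het]
      exact congrArg Subtype.val h3
  · intro x hx u hu
    rcases hcomm (e ⟨x, hx⟩) (e ⟨u, hu⟩) with h | h
    · left
      have h3 : (⟨x, hx⟩ * ⟨u, hu⟩ * (⟨x, hx⟩ : centralizer ({z} : Set G))⁻¹ * (⟨u, hu⟩ : centralizer ({z} : Set G))⁻¹ : centralizer ({z} : Set G)) = 1 := by
        apply e.injective
        rw [map_mul, map_mul, map_mul, map_inv, map_inv, h, map_one]
      exact congrArg Subtype.val h3
    · right
      have h3 : (⟨x, hx⟩ * ⟨u, hu⟩ * (⟨x, hx⟩ : centralizer ({z} : Set G))⁻¹ * (⟨u, hu⟩ : centralizer ({z} : Set G))⁻¹ : centralizer ({z} : Set G)) = ⟨z, hzC⟩ := by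
        apply e.injective
        rw [map_mul, map_mul, map_mul, map_inv, map_inv, h, het]
      exact congrArg Subtype.val h3

variable {z : G}

theorem CZ.z_inv (h : CZ z) : z⁻¹ = z := inv_eq_of_mul_eq_one_left h.hz

/-- A subgroup normalized by `C(z)` meeting `C(z)` nontrivially contains `z`. -/
theorem CZ.z_mem_of_normalized (h : CZ z) (R : Subgroup G)
    (hR : ∀ c ∈ centralizer ({z} : Set G), ∀ x ∈ R, c * x * c⁻¹ ∈ R) {x : G} (hx : x ∈ R)
    (hxC : x ∈ centralizer ({z} : Set G)) (hx1 : x ≠ 1) : z ∈ R := by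
  by_cases hc : ∀ u ∈ centralizer ({z} : Set G), x * u = u * x
  · rw [← h.center x hxC hc hx1]
    exact hx
  · push Not at hc
    obtain ⟨u, hu, hne⟩ := hc
    rcases h.comm x hxC u hu with h1 | h1
    · exfalso
      apply hne
      have h2 : x * u * x⁻¹ * u⁻¹ * u * x = u * x := by rw [h1, one_mul]
      rw [← h2]
      group
    · rw [← h1, mul_assoc, mul_assoc]
      refine R.mul_mem hx ?_
      have h3 := hR u hu x⁻¹ (R.inv_mem hx)
      rwa [mul_assoc] at h3

theorem CZ.norm_le (h : CZ z) : normalizer ((centralizer ({z} : Set G) : Subgroup G) : Set G) ≤ centralizer ({z} : Set G) := by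
  intro x hx
  rw [Subgroup.mem_normalizer_iff] at hx
  have h1 : x * z * x⁻¹ ∈ centralizer ({z} : Set G) := (hx z).mp (self_mem_C z)
  have h2 : ∀ u ∈ centralizer ({z} : Set G), (x * z * x⁻¹) * u = u * (x * z * x⁻¹) := by
    intro u hu
    have h3 : x⁻¹ * u * x ∈ centralizer ({z} : Set G) := by
      rw [hx]
      have : x * (x⁻¹ * u * x) * x⁻¹ = u := by group
      rwa [this]
    have h4 := Subgroup.mem_centralizer_singleton_iff.mp h3
    calc (x * z * x⁻¹) * u = x * (z * (x⁻¹ * u * x)) * x⁻¹ := by group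
      _ = x * ((x⁻¹ * u * x) * z) * x⁻¹ := by rw [h4]
      _ = u * (x * z * x⁻¹) := by group
  have h5 : x * z * x⁻¹ ≠ 1 := by
    intro h6
    apply h.hz1
    have : z = x⁻¹ * (x * z * x⁻¹) * x := by group
    rw [this, h6]
    group
  have h6 := h.center _ h1 h2 h5
  rw [Subgroup.mem_centralizer_singleton_iff]
  exact mul_inv_eq_iff_eq_mul.mp h6

section finite

variable [Finite G]

theorem CZ.card_mod (h : CZ z) : Nat.card G % 16 = 8 := by
  have h1 : Nat.card (centralizer ({z} : Set G)) = 2 ^ 3 := by rw [h.card]; norm_num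
  have h2 := Sylow.card_normalizer_modEq_card (p := 2) (n := 3) h1
  have h3 : normalizer ((centralizer ({z} : Set G) : Subgroup G) : Set G) = centralizer ({z} : Set G) :=
    le_antisymm h.norm_le Subgroup.le_normalizer
  rw [h3, h.card] at h2
  have h4 : (8 : ℕ) % 16 = Nat.card G % 16 := h2
  omega

theorem CZ.index_odd (h : CZ z) : ¬ 2 ∣ (centralizer ({z} : Set G)).index := by
  intro hd
  obtain ⟨k, hk⟩ := hd
  have h1 := Subgroup.card_mul_index (centralizer ({z} : Set G))
  rw [h.card, hk] at h1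
  have h2 := h.card_mod
  omega

theorem CZ.isP (h : CZ z) : IsPGroup 2 (centralizer ({z} : Set G)) :=
  IsPGroup.of_card (n := 3) (by rw [h.card]; norm_num)

theorem CZ.exists_sylow (h : CZ z) : ∃ S : Sylow 2 G, (S : Subgroup G) = centralizer ({z} : Set G) :=
  ⟨h.isP.toSylow h.index_odd, IsPGroup.toSylow_coe _ _⟩

/-- Frattini: a normal subgroup containing `C(z)` is everything. -/
theorem CZ.frattini (h : CZ z) (N : Subgroup G) [N.Normal] (hN : centralizer ({z} : Set G) ≤ N) : N = ⊤ := by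
  obtain ⟨S, hS⟩ := h.exists_sylow
  have h1 : normalizer ((S : Subgroup G) : Set G) ⊔ N = ⊤ := Sylow.normalizer_sup_eq_top' S (hS.le.trans hN)
  rw [hS] at h1
  rw [eq_top_iff, ← h1]
  exact sup_le (h.norm_le.trans hN) le_rfl

/-- `z` inverts odd normal subgroups. -/
theorem CZ.inverts (h : CZ z) (K : Subgroup G) (hK : K.Normal) (hodd : Nat.Coprime (Nat.card K) 2) :
    ∀ k ∈ K, z * k * z⁻¹ = k⁻¹ := by
  have hzi := h.z_inv
  have hmeet : ∀ x ∈ K, x ∈ centralizer ({z} : Set G) → x = 1 := by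
    intro x hx hxC
    have h1 : orderOf x ∣ Nat.card K := by
      have := orderOf_dvd_natCard (⟨x, hx⟩ : K)
      rwa [Subgroup.orderOf_mk] at this
    have h2 : orderOf x ∣ 8 := by
      rw [← h.card]
      have := orderOf_dvd_natCard (⟨x, hxC⟩ : centralizer ({z} : Set G))
      rwa [Subgroup.orderOf_mk] at this
    have h3 : Nat.Coprime (Nat.card K) 8 := Nat.Coprime.pow_right 3 hodd
    have h4 : orderOf x = 1 := Nat.eq_one_of_dvd_coprimes h3 h1 h2
    exact orderOf_eq_one_iff.mp h4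
  let f : K → K := fun k => ⟨k.1⁻¹ * (z * k.1 * z⁻¹), K.mul_mem (K.inv_mem k.2) (hK.conj_mem _ k.2 z)⟩
  have hinj : Function.Injective f := by
    rintro ⟨k, hk⟩ ⟨l, hl⟩ hkl
    have h1 : k⁻¹ * (z * k * z⁻¹) = l⁻¹ * (z * l * z⁻¹) := congrArg Subtype.val hkl
    have h2 : (l * k⁻¹) * z = z * (l * k⁻¹) := by
      have h3 : k⁻¹ * z * k = l⁻¹ * z * l := by
        have h4 := congrArg (· * z) h1
        simpa [mul_assoc] using h4
      calc (l * k⁻¹) * z = l * (k⁻¹ * z * k) * k⁻¹ := by group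
        _ = l * (l⁻¹ * z * l) * k⁻¹ := by rw [h3]
        _ = z * (l * k⁻¹) := by group
    have h5 := hmeet (l * k⁻¹) (K.mul_mem hl (K.inv_mem hk)) (Subgroup.mem_centralizer_singleton_iff.mpr h2)
    apply Subtype.ext
    exact (mul_inv_eq_one.mp h5).symm
  have hsurj : Function.Surjective f := Finite.injective_iff_surjective.mp hinj
  intro k hk
  obtain ⟨⟨l, hl⟩, hfl⟩ := hsurj ⟨k, hk⟩
  have h1 : k = l⁻¹ * (z * l * z⁻¹) := (congrArg Subtype.val hfl).symm
  rw [h1, hzi]
  have hzz := h.hz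
  calc z * (l⁻¹ * (z * l * z)) * z = z * l⁻¹ * z * l * (z * z) := by group
    _ = z * l⁻¹ * z * l := by rw [hzz, mul_one]
    _ = (l⁻¹ * (z * l * z))⁻¹ := by
      rw [mul_inv_rev, mul_inv_rev, mul_inv_rev, inv_inv, hzi]
      group

/-- An odd normal subgroup forces `G = C(z) O(G)`. -/
theorem CZ.sup_odd (h : CZ z) (K : Subgroup G) (hK : K.Normal) (hodd : Nat.Coprime (Nat.card K) 2) (hne : K ≠ ⊥) :
    centralizer ({z} : Set G) ⊔ oddCore G = ⊤ := by
  have hinv := h.inverts K hK hodd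
  have hzi := h.z_inv
  let Y : Subgroup G := centralizer (K : Set G)
  haveI hYn : Y.Normal := by
    show (centralizer (K : Set G)).Normal
    exact Subgroup.normal_centralizer
  have hsq : ∀ k ∈ K, k * k = 1 → k = 1 := by
    intro k hk hkk
    have h1 : orderOf k ∣ Nat.card K := by
      have := orderOf_dvd_natCard (⟨k, hk⟩ : K)
      rwa [Subgroup.orderOf_mk] at this
    have h2 : orderOf k ∣ 2 := orderOf_dvd_of_pow_eq_one (by rw [pow_two, hkk])
    exact orderOf_eq_one_iff.mp (Nat.eq_one_of_dvd_coprimes hodd h1 h2)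
  have hzY : z ∉ Y := by
    intro hzY
    obtain ⟨⟨k, hk⟩, hk1⟩ := Subgroup.ne_bot_iff_exists_ne_one.mp hne
    have hk1' : k ≠ 1 := fun e => hk1 (Subtype.ext e)
    have h1 := hinv k hk
    have h2 : k * z = z * k := Subgroup.mem_centralizer_iff.mp hzY k hk
    rw [← h2, mul_inv_cancel_right] at h1
    apply hk1'
    apply hsq k hk
    nth_rewrite 1 [h1]
    exact inv_mul_cancel k
  have hYodd : Nat.Coprime (Nat.card Y) 2 := by
    apply Nat.Coprime.symm
    apply (Nat.Prime.coprime_iff_not_dvd Nat.prime_two).mpr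
    intro hd
    haveI : Fact (Nat.Prime 2) := ⟨Nat.prime_two⟩
    obtain ⟨⟨c, hc⟩, hco⟩ := exists_prime_orderOf_dvd_card' (G := Y) 2 hd
    rw [Subgroup.orderOf_mk] at hco
    have hc1 : c ≠ 1 := by
      rintro rfl
      simp at hco
    have hP : IsPGroup 2 (zpowers c) := by
      apply IsPGroup.of_card (n := 1)
      rw [Nat.card_zpowers, hco, pow_one]
    obtain ⟨T, hT⟩ := hP.exists_le_sylow
    have hcT : c ∈ (T : Subgroup G) := hT (mem_zpowers c)
    obtain ⟨S, hS⟩ := h.exists_sylow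
    obtain ⟨g, hg⟩ := MulAction.exists_smul_eq G S T
    rw [← hg, Sylow.coe_subgroup_smul, Subgroup.mem_pointwise_smul_iff_inv_smul_mem, MulAut.smul_def,
      MulAut.conj_inv_apply, hS] at hcT
    have hxY : g⁻¹ * c * g ∈ Y := by
      have := hYn.conj_mem c hc g⁻¹
      rwa [inv_inv] at this
    have hx1 : g⁻¹ * c * g ≠ 1 := by
      intro h1
      apply hc1
      have : c = g * (g⁻¹ * c * g) * g⁻¹ := by group
      rw [this, h1]
      group
    exact hzY (h.z_mem_of_normalized Y (fun c _ x hx => hYn.conj_mem x hx c) hxY hcT hx1)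
  have key : ∀ g : G, ∃ d ∈ Y, d * g ∈ centralizer ({z} : Set G) := by
    intro g
    obtain ⟨u, hu⟩ : ∃ u, u = g * z * g⁻¹ := ⟨_, rfl⟩
    have huu : u * u = 1 := by
      rw [hu]
      calc g * z * g⁻¹ * (g * z * g⁻¹) = g * (z * z) * g⁻¹ := by group
        _ = 1 := by rw [h.hz]; group
    have huinv : u⁻¹ = u := inv_eq_of_mul_eq_one_left huu
    have hukk : ∀ k ∈ K, u * k * u⁻¹ = k⁻¹ := by
      intro k hk
      have h1 := hinv (g⁻¹ * k * g) (by
        have := hK.conj_mem k hk g⁻¹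
        rwa [inv_inv] at this)
      rw [huinv, hu]
      calc g * z * g⁻¹ * k * (g * z * g⁻¹) = g * (z * (g⁻¹ * k * g) * z) * g⁻¹ := by group
        _ = g * (z * (g⁻¹ * k * g) * z⁻¹) * g⁻¹ := by rw [hzi]
        _ = g * (g⁻¹ * k * g)⁻¹ * g⁻¹ := by rw [h1]
        _ = k⁻¹ := by group
    obtain ⟨c₀, hc₀⟩ : ∃ c₀, c₀ = z * u := ⟨_, rfl⟩
    have hc₀Y : c₀ ∈ Y := by
      apply Subgroup.mem_centralizer_iff.mpr
      intro k hk
      have h1 : c₀ * k * c₀⁻¹ = k := by
        rw [hc₀]
        calc z * u * k * (z * u)⁻¹ = z * (u * k * u⁻¹) * z⁻¹ := by group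
          _ = z * k⁻¹ * z⁻¹ := by rw [hukk k hk]
          _ = (z * k * z⁻¹)⁻¹ := by group
          _ = k := by rw [hinv k hk, inv_inv]
      exact (mul_inv_eq_iff_eq_mul.mp h1).symm
    have hnodd : Nat.Coprime (orderOf c₀) 2 := by
      have h1 : orderOf c₀ ∣ Nat.card Y := by
        have := orderOf_dvd_natCard (⟨c₀, hc₀Y⟩ : Y)
        rwa [Subgroup.orderOf_mk] at this
      exact Nat.Coprime.coprime_dvd_left h1 hYodd
    obtain ⟨m, hm⟩ : ∃ m, orderOf c₀ = 2 * m + 1 := by
      have h1 : Odd (orderOf c₀) := (Nat.coprime_two_right).mp hnodd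
      obtain ⟨m, hm⟩ := h1
      exact ⟨m, hm⟩
    obtain ⟨d, hd⟩ : ∃ d, d = c₀ ^ (m + 1) := ⟨_, rfl⟩
    have hdd : d * d = c₀ := by
      rw [hd, ← pow_add, show m + 1 + (m + 1) = (2 * m + 1) + 1 by ring, pow_succ, ← hm, pow_orderOf_eq_one, one_mul]
    have hconj : z * c₀ * z⁻¹ = c₀⁻¹ := by
      rw [hc₀, mul_inv_rev, huinv, hzi, ← mul_assoc z z u, h.hz, one_mul]
    have hzd : z * d * z⁻¹ = d⁻¹ := by
      rw [hd, ← conj_pow, hconj, inv_pow]
    refine ⟨d, Y.pow_mem hc₀Y _ |> (fun h' => hd ▸ h'), ?_⟩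
    have h1 : z * d = d⁻¹ * z := mul_inv_eq_iff_eq_mul.mp hzd
    have h2 : u = z * c₀ := by
      rw [hc₀, ← mul_assoc, h.hz, one_mul]
    have h3 : d * u * d⁻¹ = z := by
      rw [h2, ← hdd]
      calc d * (z * (d * d)) * d⁻¹ = d * (z * d) := by group
        _ = d * (d⁻¹ * z) := by rw [h1]
        _ = z := by group
    rw [Subgroup.mem_centralizer_singleton_iff]
    rw [hu] at h3
    have h4 : (d * g) * z * (d * g)⁻¹ = z := by
      calc (d * g) * z * (d * g)⁻¹ = d * (g * z * g⁻¹) * d⁻¹ := by group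
        _ = z := h3
    exact mul_inv_eq_iff_eq_mul.mp h4
  have hYO : Y ≤ oddCore G := Cfsg.Agent.Lib.Components.le_pPrimeCore hYn hYodd
  rw [eq_top_iff]
  intro g _
  obtain ⟨d, hd, hdg⟩ := key g
  have h1 : g = d⁻¹ * (d * g) := by group
  rw [h1, sup_comm]
  exact Subgroup.mul_mem_sup (hYO (Y.inv_mem hd)) hdg

/-- A quotient of 2-power order gives a subgroup of index two. -/
theorem exists_index_two_of_pow (N : Subgroup G) [N.Normal] {k : ℕ} (hk : N.index = 2 ^ k) (hk0 : k ≠ 0) :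
    ∃ H : Subgroup G, H.index = 2 := by
  haveI : Fact (Nat.Prime 2) := ⟨Nat.prime_two⟩
  obtain ⟨l, rfl⟩ : ∃ l, k = l + 1 := ⟨k - 1, by omega⟩
  have hQ : Nat.card (G ⧸ N) = 2 ^ (l + 1) := hk
  obtain ⟨K, hK⟩ := Sylow.exists_subgroup_card_pow_prime (G := G ⧸ N) 2 (n := l) (by
    rw [hQ]
    exact pow_dvd_pow 2 (by omega))
  have h1 := Subgroup.card_mul_index K
  rw [hK, hQ, pow_succ] at h1
  have h2 : K.index = 2 := by
    have h3 : 0 < 2 ^ l := by positivity
    exact Nat.eq_of_mul_eq_mul_left h3 h1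
  refine ⟨K.comap (QuotientGroup.mk' N), ?_⟩
  rw [Subgroup.index_comap_of_surjective _ (QuotientGroup.mk'_surjective N), h2]

/-- A perfect group has no subgroup of index two. -/
theorem perfect_no_index_two (hperf : commutator G = ⊤) (H : Subgroup G) (hH : H.index = 2) : False := by
  have h1 : commutator G ≤ H := by
    rw [commutator_def, Subgroup.commutator_le]
    intro a _ b _
    rw [commutatorElement_def, Subgroup.mul_mem_iff_of_index_two hH, Subgroup.mul_mem_iff_of_index_two hH,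
      Subgroup.mul_mem_iff_of_index_two hH, Subgroup.inv_mem_iff, Subgroup.inv_mem_iff]
    tauto
  rw [hperf, top_le_iff] at h1
  rw [h1, Subgroup.index_top] at hH
  omega

/-- `[G : N]` is a power of 2 when `G = C(z) N`. -/
theorem CZ.index_pow_of_sup (h : CZ z) (N : Subgroup G) [N.Normal] (hsup : centralizer ({z} : Set G) ⊔ N = ⊤) :
    ∃ k, N.index = 2 ^ k := by
  have h1 : N.relIndex (centralizer ({z} : Set G) ⊔ N) = N.relIndex (centralizer ({z} : Set G)) :=
    Subgroup.relIndex_sup_right _ _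
  rw [hsup, Subgroup.relIndex_top_right] at h1
  have h2 : N.relIndex (centralizer ({z} : Set G)) ∣ Nat.card (centralizer ({z} : Set G)) :=
    Subgroup.relIndex_dvd_card _ _
  rw [h.card, ← h1, show (8 : ℕ) = 2 ^ 3 by norm_num] at h2
  obtain ⟨k, -, hk⟩ := (Nat.dvd_prime_pow Nat.prime_two).mp h2
  exact ⟨k, hk⟩

/-- In a perfect group the odd core is trivial. -/
theorem CZ.odd_trivial (h : CZ z) (hperf : commutator G = ⊤) (K : Subgroup G) (hK : K.Normal)
    (hodd : Nat.Coprime (Nat.card K) 2) : K = ⊥ := by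
  by_contra hne
  have hsup := h.sup_odd K hK hodd hne
  obtain ⟨k, hk⟩ := h.index_pow_of_sup (oddCore G) hsup
  by_cases hk0 : k = 0
  · subst hk0
    have h1 : oddCore G = ⊤ := Subgroup.index_eq_one.mp (by simpa using hk)
    have h2 : Nat.Coprime (Nat.card G) 2 := by
      have h3 := Cfsg.Agent.Lib.Components.coprime_card_pPrimeCore (G := G) 2
      rwa [show pPrimeCore 2 G = ⊤ from h1, Subgroup.card_top] at h3
    have h4 := h.card_mod
    have h5 : (Nat.card G).Coprime 2 → Nat.card G % 2 = 1 := by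
      intro h6
      have := (Nat.coprime_two_right).mp h6
      exact Nat.odd_iff.mp this
    have := h5 h2
    omega
  · obtain ⟨H, hH⟩ := exists_index_two_of_pow (oddCore G) hk hk0
    exact perfect_no_index_two hperf H hH

/-- If `z` is central then `G = C(z)`, which is not perfect. -/
theorem CZ.not_central (h : CZ z) (hperf : commutator G = ⊤) : centralizer ({z} : Set G) ≠ ⊤ := by
  intro htop
  have h1 : commutator G ≤ zpowers z := by
    rw [commutator_def, Subgroup.commutator_le]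
    intro a _ b _
    rw [commutatorElement_def]
    rcases h.comm a (htop ▸ Subgroup.mem_top a) b (htop ▸ Subgroup.mem_top b) with h2 | h2
    · rw [h2]
      exact Subgroup.one_mem _
    · rw [h2]
      exact mem_zpowers z
  rw [hperf, top_le_iff] at h1
  have h2 : Nat.card (zpowers z) ≤ 2 := by
    rw [Nat.card_zpowers]
    exact orderOf_le_of_pow_eq_one (by norm_num) (by rw [pow_two, h.hz])
  rw [h1, Subgroup.card_top] at h2
  have h3 := h.card_mod
  omega

end finite

end Cfsg.Agent.Lib.A6Rec
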