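import Cfsg.Agent.Lib.A6Rec.D8

/-!
# Perfect groups with an involution whose centralizer is dihedral of order 8 are simple
-/

set_option autoImplicit false

namespace Cfsg.Agent.Lib.A6Rec

open Subgroup Cfsg

variable {G : Type*} [Group G] [Finite G] {z : G}

/-- A normal subgroup containing the commutator subgroup. -/
theorem normal_of_commutator_le' (N : Subgroup G) (h : commutator G ≤ N) : N.Normal := by
  refine ⟨fun x hx g => ?_⟩
  have h1 : g * x * g⁻¹ * x⁻¹ ∈ N := by
    apply h
    rw [commutator_def, ← commutatorElement_def]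
    exact Subgroup.commutator_mem_commutator (Subgroup.mem_top g) (Subgroup.mem_top x)
  have h2 : g * x * g⁻¹ = (g * x * g⁻¹ * x⁻¹) * x := by group
  rw [h2]
  exact N.mul_mem h1 hx

theorem CZ.sup_commutator (h : CZ z) : centralizer ({z} : Set G) ⊔ commutator G = ⊤ := by
  haveI := normal_of_commutator_le' (centralizer ({z} : Set G) ⊔ commutator G) le_sup_right
  exact h.frattini _ le_sup_left

theorem CZ.perfect_of_no_index_two (h : CZ z) (hno : ∀ H : Subgroup G, H.index ≠ 2) : commutator G = ⊤ := by
  obtain ⟨k, hk⟩ := h.index_pow_of_sup (commutator G) h.sup_commutator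
  by_cases hk0 : k = 0
  · subst hk0
    exact Subgroup.index_eq_one.mp (by simpa using hk)
  · obtain ⟨H, hH⟩ := exists_index_two_of_pow (commutator G) hk hk0
    exact absurd hH (hno H)

/-- Groups of order twice an odd number have a characteristic subgroup of index two. -/
theorem two_odd_index {H : Type*} [Group H] [Finite H] {m : ℕ} (hc : Nat.card H = 2 * m) (hm : Odd m) :
    ∃ N : Subgroup H, N.index = 2 ∧ ∀ φ : H ≃* H, ∀ x ∈ N, φ x ∈ N := by
  haveI : Fact (Nat.Prime 2) := ⟨Nat.prime_two⟩
  obtain ⟨g, hg⟩ := exists_prime_orderOf_dvd_card' (G := H) 2 (by rw [hc]; exact dvd_mul_right 2 m)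
  exact Cfsg.Agent.Lib.Perm.zf_index_two_char g (by rw [hg]; decide) m (by rw [hg, hc]) hm

/-- Numerics of a normal subgroup. -/
theorem CZ.normal_numbers (h : CZ z) (N : Subgroup G) [N.Normal] :
    ∃ s r a b : ℕ, s = Nat.card (N.subgroupOf (centralizer ({z} : Set G))) ∧ s * r = 8 ∧
      r = N.relIndex (centralizer ({z} : Set G)) ∧ N.index = r * a ∧ Odd a ∧ Odd b ∧ Nat.card N = s * b := by
  let C : Subgroup G := centralizer ({z} : Set G)
  let A : Subgroup G := C ⊔ N
  have hs : Nat.card (N.subgroupOf C) * N.relIndex C = 8 := by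
    rw [← h.card]
    exact Subgroup.card_mul_index (N.subgroupOf C)
  have h1 : N.relIndex A = N.relIndex C := Subgroup.relIndex_sup_right C N
  have h2 : N.relIndex A * A.index = N.index := Subgroup.relIndex_mul_index le_sup_right
  have h3 : C.relIndex A * A.index = C.index := Subgroup.relIndex_mul_index le_sup_left
  have hodd : Odd C.index := by
    rw [← Nat.not_even_iff_odd, even_iff_two_dvd]
    exact h.index_odd
  rw [← h3] at hodd
  obtain ⟨hb, ha⟩ := Nat.odd_mul.mp hodd
  refine ⟨_, N.relIndex C, A.index, C.relIndex A, rfl, hs, rfl, by rw [← h2, h1], ha, hb, ?_⟩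
  have h4 := Subgroup.card_mul_index N
  have h5 := Subgroup.card_mul_index C
  have h6 : Nat.card C = 8 := h.card
  rw [← h2, h1] at h4
  rw [← h3, h6] at h5
  have hr : 0 < N.relIndex C := by
    rw [Nat.pos_iff_ne_zero]
    intro h0
    rw [h0] at hs
    omega
  have ha0 : 0 < A.index := ha.pos
  apply Nat.eq_of_mul_eq_mul_right (Nat.mul_pos hr ha0)
  calc Nat.card N * (N.relIndex C * A.index) = Nat.card G := h4
    _ = 8 * (C.relIndex A * A.index) := h5.symm
    _ = (Nat.card (N.subgroupOf C) * N.relIndex C) * (C.relIndex A * A.index) := by rw [hs]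
    _ = _ := by ring

/-- A perfect group with such an involution is simple. -/
theorem CZ.simple_of_perfect (h : CZ z) (hperf : commutator G = ⊤) : IsSimpleGroup G := by
  classical
  haveI : Nontrivial G := ⟨⟨z, 1, h.hz1⟩⟩
  refine ⟨?_⟩
  intro N hN
  by_contra hcon
  push Not at hcon
  obtain ⟨hb, ht⟩ := hcon
  obtain ⟨s, r, a, b, hs, hsr, hr, hNidx, ha, hbo, hNc⟩ := h.normal_numbers N
  have hsd : s ∣ 8 := ⟨r, hsr.symm⟩
  have hcases : s = 1 ∨ s = 2 ∨ s = 4 ∨ s = 8 := by
    have hle := Nat.le_of_dvd (by norm_num) hsd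
    interval_cases s <;> first | omega | (exfalso; revert hsd; decide)
  rcases hcases with rfl | rfl | rfl | rfl
  · -- odd
    apply hb
    apply h.odd_trivial hperf N hN
    rw [hNc, one_mul]
    exact Nat.coprime_two_right.mpr hbo
  · -- twice odd
    obtain ⟨K₀, hK₀, hchar⟩ := two_odd_index hNc hbo
    let K : Subgroup G := K₀.map N.subtype
    have hKn : K.Normal := by
      refine ⟨?_⟩
      rintro _ ⟨x, hx, rfl⟩ g
      refine ⟨(MulAut.conjNormal g : N ≃* N) x, hchar _ x hx, ?_⟩
      exact MulAut.conjNormal_apply g x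
    have hKc : Nat.card K = Nat.card K₀ := Nat.card_congr (K₀.equivMapOfInjective _ N.subtype_injective).symm.toEquiv
    have hK₀c : Nat.card K₀ * 2 = 2 * b := by
      rw [← hNc, ← hK₀]
      exact Subgroup.card_mul_index K₀
    have hK₀b : Nat.card K₀ = b := by omega
    have hK : K = ⊥ := h.odd_trivial hperf K hKn (by
      rw [hKc, hK₀b]
      exact Nat.coprime_two_right.mpr hbo)
    have hb1 : b = 1 := by
      have h1 := Subgroup.card_bot (G := G)
      rw [← hK, hKc, hK₀b] at h1
      exact h1
    subst hb1
    -- `N` has order two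
    obtain ⟨⟨x, hx⟩, hx1⟩ := Subgroup.ne_bot_iff_exists_ne_one.mp hb
    have hx1' : x ≠ 1 := fun e => hx1 (Subtype.ext e)
    have huniq : ∀ y ∈ N, y ≠ 1 → y = x := by
      intro y hy hy1
      by_contra hne
      have h3 : ({1, x, y} : Finset G).card ≤ Nat.card N := by
        letI : Fintype N := Fintype.ofFinite N
        have hsub : ({1, x, y} : Finset G) ⊆ (Finset.univ : Finset N).image (fun u => u.1) := by
          intro w hw
          simp only [Finset.mem_insert, Finset.mem_singleton] at hw
          rcases hw with rfl | rfl | rfl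
          · exact Finset.mem_image.mpr ⟨1, Finset.mem_univ _, rfl⟩
          · exact Finset.mem_image.mpr ⟨⟨_, hx⟩, Finset.mem_univ _, rfl⟩
          · exact Finset.mem_image.mpr ⟨⟨_, hy⟩, Finset.mem_univ _, rfl⟩
        have h4 := Finset.card_le_card hsub
        have h5 := Finset.card_image_le (s := (Finset.univ : Finset N)) (f := fun u => u.1)
        rw [Finset.card_univ, ← Nat.card_eq_fintype_card] at h5
        omega
      have h4 : ({1, x, y} : Finset G).card = 3 := by
        rw [Finset.card_insert_of_notMem, Finset.card_pair (Ne.symm hne)]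
        simp only [Finset.mem_insert, Finset.mem_singleton, not_or]
        exact ⟨hx1'.symm, hy1.symm⟩
      rw [hNc] at h3
      omega
    have hcentral : ∀ g : G, g * x = x * g := by
      intro g
      have h1 : g * x * g⁻¹ ∈ N := hN.conj_mem x hx g
      have h2 : g * x * g⁻¹ ≠ 1 := by
        intro h3
        apply hx1'
        have : x = g⁻¹ * (g * x * g⁻¹) * g := by group
        rw [this, h3]
        group
      exact mul_inv_eq_iff_eq_mul.mp (huniq _ h1 h2)
    have hxC : x ∈ centralizer ({z} : Set G) :=
      Subgroup.mem_centralizer_singleton_iff.mpr (hcentral z).symm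
    have hxz : x = z := h.center x hxC (fun u _ => (hcentral u).symm) hx1'
    apply h.not_central hperf
    rw [eq_top_iff]
    intro g _
    rw [Subgroup.mem_centralizer_singleton_iff, ← hxz]
    exact hcentral g
  · -- index twice odd
    have hr2 : r = 2 := by omega
    rw [hr2] at hNidx
    have hQ : Nat.card (G ⧸ N) = 2 * a := hNidx
    obtain ⟨K₀, hK₀, -⟩ := two_odd_index hQ ha
    apply perfect_no_index_two hperf (K₀.comap (QuotientGroup.mk' N))
    rw [Subgroup.index_comap_of_surjective _ (QuotientGroup.mk'_surjective N), hK₀]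
  · -- contains `C(z)`
    have hr1 : r = 1 := by omega
    rw [hr1] at hr
    have hle : centralizer ({z} : Set G) ≤ N := Subgroup.relIndex_eq_one.mp hr.symm
    exact ht (h.frattini N hle)

end Cfsg.Agent.Lib.A6Rec
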