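import Cfsg.Agent.Lib.A6Rec.D8b
import Cfsg.Agent.S3278

/-!
# Groups with an involution whose centralizer is a Sylow Klein four-group

If `O(X) = 1` then `X` is the Klein group, or the Klein group is normal of index 3, or `X` is simple.
-/

set_option autoImplicit false

namespace Cfsg.Agent.Lib.A6Rec

open Subgroup Cfsg

variable {X : Type*} [Group X] [Finite X]

/-- Hypotheses. -/
structure KB (z : X) (b : ℕ) : Prop where
  hz : z * z = 1
  hz1 : z ≠ 1
  hcard : Nat.card (centralizer ({z} : Set X)) = 4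
  hexp : ∀ x ∈ centralizer ({z} : Set X), x * x = 1
  hX : Nat.card X = 4 * b
  hb : Odd b
  hO : pPrimeCore 2 X = ⊥

variable {z : X} {b : ℕ}

theorem KB.comm (h : KB z b) {x y : X} (hx : x ∈ centralizer ({z} : Set X)) (hy : y ∈ centralizer ({z} : Set X)) :
    x * y = y * x := by
  have h1 := h.hexp _ ((centralizer ({z} : Set X)).mul_mem hx hy)
  have h2 := h.hexp _ hx
  have h3 := h.hexp _ hy
  calc x * y = x * (x * y * (x * y)) * y := by rw [h1, mul_one]
    _ = (x * x) * y * x * (y * y) := by group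
    _ = y * x := by rw [h2, h3, one_mul, mul_one]

theorem KB.index (h : KB z b) : (centralizer ({z} : Set X)).index = b := by
  have h1 := Subgroup.card_mul_index (centralizer ({z} : Set X))
  rw [h.hcard, h.hX] at h1
  omega

theorem KB.exists_sylow (h : KB z b) : ∃ S : Sylow 2 X, (S : Subgroup X) = centralizer ({z} : Set X) := by
  have hP : IsPGroup 2 (centralizer ({z} : Set X)) := IsPGroup.of_card (n := 2) (by rw [h.hcard]; norm_num)
  have hi : ¬ 2 ∣ (centralizer ({z} : Set X)).index := by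
    rw [h.index, ← even_iff_two_dvd, Nat.not_even_iff_odd]
    exact h.hb
  exact ⟨hP.toSylow hi, IsPGroup.toSylow_coe _ _⟩

theorem KB.odd_normal (h : KB z b) (M : Subgroup X) (hM : M.Normal) (hodd : Nat.Coprime (Nat.card M) 2) : M = ⊥ := by
  have h1 := Cfsg.Agent.Lib.Components.le_pPrimeCore hM hodd
  rw [h.hO] at h1
  exact le_bot_iff.mp h1

/-- Burnside: if the normalizer centralizes the Klein group then `X` is the Klein group. -/
theorem KB.caseA (h : KB z b)
    (hN : normalizer ((centralizer ({z} : Set X) : Subgroup X) : Set X) ≤ centralizer ((centralizer ({z} : Set X) : Subgroup X) : Set X)) :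
    b = 1 := by
  obtain ⟨S, hS⟩ := h.exists_sylow
  have hN' : normalizer ((S : Subgroup X) : Set X) ≤ centralizer ((S : Subgroup X) : Set X) := by
    rw [hS]
    exact hN
  have hc := MonoidHom.ker_transferSylow_isComplement' S hN'
  have h1 := hc.card_mul
  have hSc : Nat.card (S : Subgroup X) = 4 := by
    rw [hS]
    exact h.hcard
  rw [hSc, h.hX] at h1
  have h2 : Nat.card (MonoidHom.transferSylow S hN').ker = b := by omega
  have h3 : (MonoidHom.transferSylow S hN').ker = ⊥ := h.odd_normal _ inferInstance (by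
    rw [h2]
    exact Nat.coprime_two_right.mpr h.hb)
  rw [h3, Subgroup.card_bot] at h2
  exact h2.symm

/-- The data of a three-element fusion. -/
structure KC (z c : X) (b : ℕ) : Prop extends KB z b where
  cN : c ∈ normalizer ((centralizer ({z} : Set X) : Subgroup X) : Set X)
  z2 : c * z * c⁻¹ ≠ z
  z3 : c * (c * z * c⁻¹) * c⁻¹ ≠ z
  memV : ∀ x ∈ centralizer ({z} : Set X), x = 1 ∨ x = z ∨ x = c * z * c⁻¹ ∨ x = c * (c * z * c⁻¹) * c⁻¹
  cube : c * (c * (c * z * c⁻¹) * c⁻¹) * c⁻¹ = z

/-- Distinct elements fill up a set of size four. -/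
theorem eq_of_card_four {V : Subgroup X} (hV : Nat.card V = 4) {a b' c' : X} (ha : a ∈ V) (hb : b' ∈ V) (hc : c' ∈ V)
    (h1a : a ≠ 1) (h1b : b' ≠ 1) (h1c : c' ≠ 1) (hab : a ≠ b') (hac : a ≠ c') (hbc : b' ≠ c') :
    ∀ x ∈ V, x = 1 ∨ x = a ∨ x = b' ∨ x = c' := by
  classical
  intro x hx
  by_contra hcon
  push Not at hcon
  obtain ⟨hx1, hxa, hxb, hxc⟩ := hcon
  letI : Fintype V := Fintype.ofFinite V
  have hsub : ({1, a, b', c', x} : Finset X) ⊆ (Finset.univ : Finset V).image (fun u => u.1) := by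
    intro w hw
    simp only [Finset.mem_insert, Finset.mem_singleton] at hw
    rcases hw with rfl | rfl | rfl | rfl | rfl
    · exact Finset.mem_image.mpr ⟨1, Finset.mem_univ _, rfl⟩
    · exact Finset.mem_image.mpr ⟨⟨_, ha⟩, Finset.mem_univ _, rfl⟩
    · exact Finset.mem_image.mpr ⟨⟨_, hb⟩, Finset.mem_univ _, rfl⟩
    · exact Finset.mem_image.mpr ⟨⟨_, hc⟩, Finset.mem_univ _, rfl⟩
    · exact Finset.mem_image.mpr ⟨⟨_, hx⟩, Finset.mem_univ _, rfl⟩
  have h4 := Finset.card_le_card hsub
  have h5 := Finset.card_image_le (s := (Finset.univ : Finset V)) (f := fun u => u.1)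
  rw [Finset.card_univ, ← Nat.card_eq_fintype_card, hV] at h5
  have h6 : ({1, a, b', c', x} : Finset X).card = 5 := by
    rw [Finset.card_insert_of_notMem, Finset.card_insert_of_notMem, Finset.card_insert_of_notMem,
      Finset.card_pair hxc.symm]
    · simp only [Finset.mem_insert, Finset.mem_singleton, not_or]
      exact ⟨hbc, hxb.symm⟩
    · simp only [Finset.mem_insert, Finset.mem_singleton, not_or]
      exact ⟨hab, hac, hxa.symm⟩
    · simp only [Finset.mem_insert, Finset.mem_singleton, not_or]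
      exact ⟨h1a.symm, h1b.symm, h1c.symm, hx1.symm⟩
  omega

/-- The fusion data when the normalizer acts nontrivially. -/
theorem KB.exists_c (h : KB z b)
    (hN : ¬ normalizer ((centralizer ({z} : Set X) : Subgroup X) : Set X) ≤ centralizer ((centralizer ({z} : Set X) : Subgroup X) : Set X)) :
    ∃ c, KC z c b := by
  obtain ⟨c, hc, hcC⟩ := Set.not_subset.mp hN
  have hc' := hc
  rw [SetLike.mem_coe, Subgroup.mem_normalizer_iff] at hc'
  have hzV := self_mem_C z
  have hmem : ∀ x ∈ centralizer ({z} : Set X), c * x * c⁻¹ ∈ centralizer ({z} : Set X) := fun x hx => (hc' x).mp hx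
  have h2 : c * z * c⁻¹ ≠ z := by
    intro he
    apply hcC
    have h3 : c ∈ centralizer ({z} : Set X) :=
      Subgroup.mem_centralizer_singleton_iff.mpr (mul_inv_eq_iff_eq_mul.mp he)
    rw [SetLike.mem_coe, Subgroup.mem_centralizer_iff]
    intro y hy
    exact h.comm hy h3
  have hinj : ∀ x y : X, c * x * c⁻¹ = c * y * c⁻¹ → x = y := by
    intro x y hxy
    have := mul_right_cancel hxy
    exact mul_left_cancel this
  have hne1 : ∀ x : X, x ≠ 1 → c * x * c⁻¹ ≠ 1 := by
    intro x hx he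
    apply hx
    apply hinj
    rw [he]
    group
  have h3 : c * (c * z * c⁻¹) * c⁻¹ ≠ z := by
    intro he
    -- `c²` centralizes `z`, so `c` is a 2-element normalizing the Sylow subgroup
    have hcc : c * c ∈ centralizer ({z} : Set X) := by
      apply Subgroup.mem_centralizer_singleton_iff.mpr
      apply mul_inv_eq_iff_eq_mul.mp
      calc (c * c) * z * (c * c)⁻¹ = c * (c * z * c⁻¹) * c⁻¹ := by simp only [mul_inv_rev, mul_assoc]
        _ = z := he
    have hc4 : c ^ 4 = 1 := by
      have := h.hexp _ hcc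
      rw [← this]
      simp only [pow_succ, pow_zero, one_mul, mul_assoc]
    obtain ⟨S, hS⟩ := h.exists_sylow
    have hP1 : IsPGroup 2 (zpowers c) := by
      apply IsPGroup.of_card (n := (orderOf c).factorization 2)
      rw [Nat.card_zpowers]
      have hd : orderOf c ∣ 2 ^ 2 := orderOf_dvd_of_pow_eq_one (by norm_num; exact hc4)
      obtain ⟨k, -, hk⟩ := (Nat.dvd_prime_pow Nat.prime_two).mp hd
      rw [hk, Nat.Prime.factorization_pow Nat.prime_two]
      simp
    have hP2 : IsPGroup 2 (zpowers c ⊔ (S : Subgroup X) : Subgroup X) := by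
      apply hP1.to_sup_of_normal_right' S.isPGroup'
      rw [zpowers_le, hS]
      exact hc
    have hmax := S.is_maximal' hP2 le_sup_right
    have hcS : c ∈ (S : Subgroup X) := by
      rw [← hmax]
      exact Subgroup.mem_sup_left (mem_zpowers c)
    rw [hS] at hcS
    exact h2 (mul_inv_eq_iff_eq_mul.mpr (Subgroup.mem_centralizer_singleton_iff.mp hcS))
  have hz2V := hmem z hzV
  have hz3V := hmem _ hz2V
  have hz21 := hne1 z h.hz1
  have hz31 := hne1 _ hz21
  have h23 : c * z * c⁻¹ ≠ c * (c * z * c⁻¹) * c⁻¹ := fun he => h2 (hinj _ _ he).symm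
  have hV := eq_of_card_four h.hcard hzV hz2V hz3V h.hz1 hz21 hz31 h2.symm h3.symm h23
  have hcube : c * (c * (c * z * c⁻¹) * c⁻¹) * c⁻¹ = z := by
    rcases hV _ (hmem _ hz3V) with h4 | h4 | h4 | h4
    · exact absurd h4 (hne1 _ hz31)
    · exact h4
    · exact absurd (hinj _ _ h4) h3
    · exact absurd (hinj _ _ h4) h23.symm
  exact ⟨c, h, hc, h2, h3, hV, hcube⟩

variable {c : X}

theorem KC.c_not_mem (h : KC z c b) : c ∉ centralizer ({z} : Set X) := by
  intro hc
  exact h.z2 (mul_inv_eq_iff_eq_mul.mpr (Subgroup.mem_centralizer_singleton_iff.mp hc))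

theorem KC.cc_not_mem (h : KC z c b) : c * c ∉ centralizer ({z} : Set X) := by
  intro hc
  apply h.z3
  have h1 := mul_inv_eq_iff_eq_mul.mpr (Subgroup.mem_centralizer_singleton_iff.mp hc)
  calc c * (c * z * c⁻¹) * c⁻¹ = (c * c) * z * (c * c)⁻¹ := by simp only [mul_inv_rev, mul_assoc]
    _ = z := h1

theorem KC.ccc_mem (h : KC z c b) : c * c * c ∈ centralizer ({z} : Set X) := by
  apply Subgroup.mem_centralizer_singleton_iff.mpr
  apply mul_inv_eq_iff_eq_mul.mp
  calc (c * c * c) * z * (c * c * c)⁻¹ = c * (c * (c * z * c⁻¹) * c⁻¹) * c⁻¹ := by simp only [mul_inv_rev, mul_assoc]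
    _ = z := h.cube

/-- Cosets in the normalizer. -/
theorem KC.cosets (h : KC z c b) {x : X} (hx : x ∈ normalizer ((centralizer ({z} : Set X) : Subgroup X) : Set X)) :
    x ∈ centralizer ({z} : Set X) ∨ c⁻¹ * x ∈ centralizer ({z} : Set X) ∨ (c * c)⁻¹ * x ∈ centralizer ({z} : Set X) := by
  have hx' := hx
  rw [Subgroup.mem_normalizer_iff] at hx'
  have h1 := (hx' z).mp (self_mem_C z)
  have hne : x * z * x⁻¹ ≠ 1 := by
    intro he
    apply h.hz1
    have : z = x⁻¹ * (x * z * x⁻¹) * x := by group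
    rw [this, he]
    group
  rcases h.memV _ h1 with h2 | h2 | h2 | h2
  · exact absurd h2 hne
  · left
    exact Subgroup.mem_centralizer_singleton_iff.mpr (mul_inv_eq_iff_eq_mul.mp h2)
  · right; left
    apply Subgroup.mem_centralizer_singleton_iff.mpr
    apply mul_inv_eq_iff_eq_mul.mp
    calc c⁻¹ * x * z * (c⁻¹ * x)⁻¹ = c⁻¹ * (x * z * x⁻¹) * c := by group
      _ = c⁻¹ * (c * z * c⁻¹) * c := by rw [h2]
      _ = z := by group
  · right; right
    apply Subgroup.mem_centralizer_singleton_iff.mpr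
    apply mul_inv_eq_iff_eq_mul.mp
    calc (c * c)⁻¹ * x * z * ((c * c)⁻¹ * x)⁻¹ = (c * c)⁻¹ * (x * z * x⁻¹) * (c * c) := by
          simp only [mul_inv_rev, inv_inv, mul_assoc]
      _ = (c * c)⁻¹ * (c * (c * z * c⁻¹) * c⁻¹) * (c * c) := by rw [h2]
      _ = z := by simp only [mul_inv_rev, mul_assoc, inv_mul_cancel_left, inv_mul_cancel, mul_one]

/-- All involutions are conjugate to `z`. -/
theorem KC.conj (h : KC z c b) {t : X} (ht : t * t = 1) (ht1 : t ≠ 1) : ∃ g, g * t * g⁻¹ = z := by
  have hco : orderOf t = 2 := orderOf_eq_prime (by rw [pow_two, ht]) ht1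
  have hP : IsPGroup 2 (zpowers t) := by
    apply IsPGroup.of_card (n := 1)
    rw [Nat.card_zpowers, hco, pow_one]
  obtain ⟨T, hT⟩ := hP.exists_le_sylow
  have htT : t ∈ (T : Subgroup X) := hT (mem_zpowers t)
  obtain ⟨S, hS⟩ := h.exists_sylow
  obtain ⟨g, hg⟩ := MulAction.exists_smul_eq X S T
  rw [← hg, Sylow.coe_subgroup_smul, Subgroup.mem_pointwise_smul_iff_inv_smul_mem, MulAut.smul_def,
    MulAut.conj_inv_apply, hS] at htT
  have hne : g⁻¹ * t * g ≠ 1 := by
    intro h1
    apply ht1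
    have : t = g * (g⁻¹ * t * g) * g⁻¹ := by group
    rw [this, h1]
    group
  rcases h.memV _ htT with h2 | h2 | h2 | h2
  · exact absurd h2 hne
  · exact ⟨g⁻¹, by rw [inv_inv]; exact h2⟩
  · refine ⟨c⁻¹ * g⁻¹, ?_⟩
    calc c⁻¹ * g⁻¹ * t * (c⁻¹ * g⁻¹)⁻¹ = c⁻¹ * (g⁻¹ * t * g) * c := by group
      _ = c⁻¹ * (c * z * c⁻¹) * c := by rw [h2]
      _ = z := by group
  · refine ⟨(c * c)⁻¹ * g⁻¹, ?_⟩
    calc (c * c)⁻¹ * g⁻¹ * t * ((c * c)⁻¹ * g⁻¹)⁻¹ = (c * c)⁻¹ * (g⁻¹ * t * g) * (c * c) := by
          simp only [mul_inv_rev, inv_inv, mul_assoc]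
      _ = (c * c)⁻¹ * (c * (c * z * c⁻¹) * c⁻¹) * (c * c) := by rw [h2]
      _ = z := by simp only [mul_inv_rev, mul_assoc, inv_mul_cancel_left, inv_mul_cancel, mul_one]

/-- A nontrivial normal subgroup contains the Klein group. -/
theorem KC.le_normal (h : KC z c b) (M : Subgroup X) (hM : M.Normal) (hne : M ≠ ⊥) :
    centralizer ({z} : Set X) ≤ M := by
  have heven : 2 ∣ Nat.card M := by
    by_contra hd
    exact hne (h.odd_normal M hM ((Nat.Prime.coprime_iff_not_dvd Nat.prime_two).mpr hd).symm)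
  haveI : Fact (Nat.Prime 2) := ⟨Nat.prime_two⟩
  obtain ⟨⟨t, ht⟩, hto⟩ := exists_prime_orderOf_dvd_card' (G := M) 2 heven
  rw [Subgroup.orderOf_mk] at hto
  have htt : t * t = 1 := by
    rw [← pow_two, ← hto]
    exact pow_orderOf_eq_one t
  have ht1 : t ≠ 1 := by
    rintro rfl
    simp at hto
  obtain ⟨g, hg⟩ := h.conj htt ht1
  have hz : z ∈ M := hg ▸ hM.conj_mem t ht g
  have hz2 : c * z * c⁻¹ ∈ M := hM.conj_mem z hz c
  have hz3 := hM.conj_mem _ hz2 c
  intro x hx
  rcases h.memV x hx with rfl | rfl | rfl | rfl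
  · exact M.one_mem
  · exact hz
  · exact hz2
  · exact hz3

/-- If the Klein group is not normal then `X` is simple. -/
theorem KC.simple (h : KC z c b) (hnn : ¬ (centralizer ({z} : Set X)).Normal) : IsSimpleGroup X := by
  classical
  haveI : Nontrivial X := ⟨⟨z, 1, h.hz1⟩⟩
  refine ⟨?_⟩
  intro M hM
  by_contra hcon
  push Not at hcon
  obtain ⟨hb, ht⟩ := hcon
  have hVM := h.le_normal M hM hb
  obtain ⟨S, hS⟩ := h.exists_sylow
  have hSM : (S : Subgroup X) ≤ M := hS.le.trans hVM
  have hFr : normalizer ((S : Subgroup X) : Set X) ⊔ M = ⊤ := Sylow.normalizer_sup_eq_top' S hSM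
  rw [hS] at hFr
  have hcM : c ∉ M := by
    intro hcM
    apply ht
    rw [eq_top_iff, ← hFr]
    refine sup_le ?_ le_rfl
    intro x hx
    rcases h.cosets hx with h1 | h1 | h1
    · exact hVM h1
    · have : x = c * (c⁻¹ * x) := by group
      rw [this]
      exact M.mul_mem hcM (hVM h1)
    · have : x = (c * c) * ((c * c)⁻¹ * x) := (mul_inv_cancel_left _ _).symm
      rw [this]
      exact M.mul_mem (M.mul_mem hcM hcM) (hVM h1)
  have hNM : ∀ x ∈ normalizer ((centralizer ({z} : Set X) : Subgroup X) : Set X), x ∈ M → x ∈ centralizer ({z} : Set X) := by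
    intro x hx hxM
    rcases h.cosets hx with h1 | h1 | h1
    · exact h1
    · exfalso
      apply hcM
      have : c = x * (c⁻¹ * x)⁻¹ := by group
      rw [this]
      exact M.mul_mem hxM (M.inv_mem (hVM h1))
    · exfalso
      have h2 : c * c ∈ M := by
        have : c * c = x * ((c * c)⁻¹ * x)⁻¹ := by rw [mul_inv_rev, inv_inv, mul_inv_cancel_left]
        rw [this]
        exact M.mul_mem hxM (M.inv_mem (hVM h1))
      apply hcM
      have h3 : c * c * c ∈ M := hVM h.ccc_mem
      have : c = (c * c)⁻¹ * (c * c * c) := (inv_mul_cancel_left _ _).symm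
      rw [this]
      exact M.mul_mem (M.inv_mem h2) h3
  -- Burnside in `M`
  let P' : Sylow 2 M := S.subtype hSM
  have hP'co : (P' : Subgroup M) = (centralizer ({z} : Set X)).subgroupOf M := by
    rw [Sylow.coe_subtype, hS]
  have hN' : normalizer ((P' : Subgroup M) : Set M) ≤ centralizer ((P' : Subgroup M) : Set M) := by
    intro x hx
    rw [Subgroup.mem_centralizer_iff]
    intro y hy
    have hy' : (y : X) ∈ centralizer ({z} : Set X) := by
      have h1 : y ∈ (P' : Subgroup M) := hy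
      rw [hP'co, Subgroup.mem_subgroupOf] at h1
      exact h1
    have hxN : (x : X) ∈ normalizer ((centralizer ({z} : Set X) : Subgroup X) : Set X) := by
      rw [Subgroup.mem_normalizer_iff]
      intro u
      have hx2 := hx
      rw [Subgroup.mem_normalizer_iff] at hx2
      by_cases huM : u ∈ M
      · have h1 := hx2 ⟨u, huM⟩
        rw [hP'co, Subgroup.mem_subgroupOf, Subgroup.mem_subgroupOf] at h1
        exact h1
      · constructor
        · intro hu
          exact absurd (hVM hu) huM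
        · intro hu
          exfalso
          apply huM
          have h3 := hVM hu
          have : u = (x : X)⁻¹ * ((x : X) * u * (x : X)⁻¹) * (x : X) := by group
          rw [this]
          exact M.mul_mem (M.mul_mem (M.inv_mem x.2) h3) x.2
    have hxV := hNM _ hxN x.2
    apply Subtype.ext
    exact h.comm hy' hxV
  have hcompl := MonoidHom.ker_transferSylow_isComplement' P' hN'
  obtain ⟨K₁, hK₁⟩ : ∃ K₁ : Subgroup M, K₁ = (MonoidHom.transferSylow P' hN').ker := ⟨_, rfl⟩
  rw [← hK₁] at hcompl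
  haveI hK₁n : K₁.Normal := by
    rw [hK₁]
    infer_instance
  have hP'c : Nat.card (P' : Subgroup M) = 4 := by
    rw [hP'co, Nat.card_congr (Subgroup.subgroupOfEquivOfLe hVM).toEquiv, h.hcard]
  have hcardM := hcompl.card_mul
  rw [hP'c] at hcardM
  -- the order of `K₁` is odd
  have hdvd : Nat.card M ∣ Nat.card X := Subgroup.card_subgroup_dvd_card M
  have hK₁odd : Nat.Coprime (Nat.card K₁) 2 := by
    apply Nat.Coprime.symm
    apply (Nat.Prime.coprime_iff_not_dvd Nat.prime_two).mpr
    intro hd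
    obtain ⟨u, hu⟩ := hd
    have hX := h.hX
    obtain ⟨v, hv⟩ := hdvd
    rw [← hcardM, hu, hX] at hv
    obtain ⟨w, hw⟩ := h.hb
    have h3 : 4 * b = 4 * (2 * (u * v)) := by
      rw [hv]
      ring
    omega
  have hidx : K₁.index = 4 := by
    have h1 := Subgroup.card_mul_index K₁
    have hpos : 0 < Nat.card K₁ := Nat.card_pos
    rw [← hcardM] at h1
    exact Nat.eq_of_mul_eq_mul_left hpos h1
  -- `K₁` is the set of elements of odd order
  have hodd_mem : ∀ x : M, Nat.Coprime (orderOf x) 2 → x ∈ K₁ := by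
    intro x hx
    have h1 : ((x : M) : M ⧸ K₁) ^ 4 = 1 := by
      have := pow_card_eq_one' (x := ((x : M) : M ⧸ K₁))
      have h2 : Nat.card (M ⧸ K₁) = 4 := hidx
      rwa [h2] at this
    have h2 : ((x : M) : M ⧸ K₁) ^ orderOf x = 1 := by
      rw [← QuotientGroup.mk_pow, pow_orderOf_eq_one]
      rfl
    have h3 : Nat.Coprime (orderOf x) 4 := Nat.Coprime.pow_right 2 hx
    have h4 : orderOf ((x : M) : M ⧸ K₁) = 1 :=
      Nat.eq_one_of_dvd_coprimes h3 (orderOf_dvd_of_pow_eq_one h2) (orderOf_dvd_of_pow_eq_one h1)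
    have h5 := orderOf_eq_one_iff.mp h4
    exact (QuotientGroup.eq_one_iff x).mp h5
  let K : Subgroup X := K₁.map M.subtype
  have hKcard : Nat.card K = Nat.card K₁ := Nat.card_congr (K₁.equivMapOfInjective _ M.subtype_injective).symm.toEquiv
  have hKn : K.Normal := by
    refine ⟨?_⟩
    rintro _ ⟨x, hx, rfl⟩ g
    have hgx : g * (x : X) * g⁻¹ ∈ M := hM.conj_mem _ x.2 g
    refine ⟨⟨_, hgx⟩, ?_, rfl⟩
    apply hodd_mem
    have h1 : orderOf (⟨_, hgx⟩ : M) = orderOf (x : X) := by
      rw [Subgroup.orderOf_mk]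
      have := MulEquiv.orderOf_eq (MulAut.conj g) (x : X)
      rwa [MulAut.conj_apply] at this
    rw [h1]
    have h2 : orderOf (x : X) ∣ Nat.card K₁ := by
      rw [Subgroup.orderOf_coe]
      have := orderOf_dvd_natCard (⟨x, hx⟩ : K₁)
      rwa [Subgroup.orderOf_mk] at this
    exact Nat.Coprime.coprime_dvd_left h2 hK₁odd
  have hKbot : K = ⊥ := h.odd_normal K hKn (by rw [hKcard]; exact hK₁odd)
  have hK₁c : Nat.card K₁ = 1 := by
    rw [← hKcard, hKbot, Subgroup.card_bot]
  rw [hK₁c, one_mul] at hcardM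
  have heq : centralizer ({z} : Set X) = M := by
    apply Subgroup.eq_of_le_of_card_ge hVM
    rw [h.hcard, hcardM]
  apply hnn
  rw [heq]
  exact hM

theorem KC.three_dvd (h : KC z c b) : 3 ∣ orderOf c := by
  by_contra hd
  have hco : Nat.Coprime 3 (orderOf c) := (Nat.Prime.coprime_iff_not_dvd Nat.prime_three).mpr hd
  obtain ⟨m, hm⟩ := exists_pow_eq_self_of_coprime hco
  apply h.c_not_mem
  rw [← hm]
  apply Subgroup.pow_mem
  have h3 : c ^ 3 = c * c * c := by simp only [pow_succ, pow_zero, one_mul]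
  rw [h3]
  exact h.ccc_mem

/-- The trichotomy. -/
theorem KB.branch (h : KB z b) : b = 1 ∨
    (∃ c, KC z c b ∧ (centralizer ({z} : Set X)).Normal ∧ b = 3) ∨
    (∃ c, KC z c b ∧ ¬ (centralizer ({z} : Set X)).Normal ∧ IsSimpleGroup X) := by
  by_cases hN : normalizer ((centralizer ({z} : Set X) : Subgroup X) : Set X) ≤
      centralizer ((centralizer ({z} : Set X) : Subgroup X) : Set X)
  · left
    exact h.caseA hN
  right
  obtain ⟨c, hc⟩ := h.exists_c hN
  by_cases hn : (centralizer ({z} : Set X)).Normal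
  · left
    refine ⟨c, hc, hn, ?_⟩
    have hall : ∀ x : X, x ∈ normalizer ((centralizer ({z} : Set X) : Subgroup X) : Set X) := by
      intro x
      rw [Subgroup.normalizer_eq_top_iff.mpr hn]
      exact Subgroup.mem_top x
    let f : Fin 3 → X ⧸ (centralizer ({z} : Set X)) := ![((1 : X) : X ⧸ (centralizer ({z} : Set X))), (c : X ⧸ (centralizer ({z} : Set X))), ((c * c : X) : X ⧸ (centralizer ({z} : Set X)))]
    have hf : Function.Surjective f := by
      intro q
      obtain ⟨x, rfl⟩ := QuotientGroup.mk_surjective q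
      rcases hc.cosets (hall x) with h1 | h1 | h1
      · exact ⟨0, QuotientGroup.eq.mpr (by simpa using h1)⟩
      · exact ⟨1, QuotientGroup.eq.mpr h1⟩
      · exact ⟨2, QuotientGroup.eq.mpr h1⟩
    have hle : (centralizer ({z} : Set X)).index ≤ 3 := by
      have := Nat.card_le_card_of_surjective f hf
      show Nat.card (X ⧸ centralizer ({z} : Set X)) ≤ 3
      simpa using this
    rw [h.index] at hle
    have hb1 : b ≠ 1 := by
      intro hb
      have h1 := h.index
      rw [hb] at h1
      have h2 : centralizer ({z} : Set X) = ⊤ := Subgroup.index_eq_one.mp h1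
      apply hc.c_not_mem
      rw [h2]
      exact Subgroup.mem_top c
    obtain ⟨w, hw⟩ := h.hb
    omega
  · right
    exact ⟨c, hc, hn, hc.simple hn⟩

end Cfsg.Agent.Lib.A6Rec
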