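import Cfsg.Agent.Lib.A6Rec.Count
import Cfsg.Agent.Lib.SmallSimple.Count

/-!
# A simple group of order 360 is isomorphic to the alternating group of degree 6
-/

set_option autoImplicit false

namespace Cfsg.Agent.Lib.A6Rec

open Subgroup Cfsg.Agent.Lib.SmallSimple

variable {G : Type*} [Group G] [Finite G] [IsSimpleGroup G]

theorem order_five (hG : Nat.card G = 360) {x : G} (h : ∀ R : Sylow 3 G, x • R ≠ R) : orderOf x = 5 := by
  classical
  letI : Fintype (Sylow 3 G) := Fintype.ofFinite _
  have hn : orderOf x ∣ 360 := hG ▸ orderOf_dvd_natCard x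
  have hn0 : orderOf x ≠ 0 := by
    intro h0
    rw [h0] at hn
    omega
  have h3 : ¬ 3 ∣ orderOf x := by
    intro d
    have ho : orderOf (x ^ (orderOf x / 3)) = 3 := orderOf_pow_orderOf_div hn0 d
    obtain ⟨P, hP⟩ := exists_sylow_of_orderOf ho
    have hc : x * x ^ (orderOf x / 3) = x ^ (orderOf x / 3) * x := (Commute.refl x).pow_right _
    have h1 : x ^ (orderOf x / 3) • (x • P) = x • P := by
      rw [smul_smul, ← hc, mul_smul, smul_self_of_mem hP]
    have h2 := mem_of_smul_eq hP h1
    have h4 : x ^ (orderOf x / 3) ∈ (P : Subgroup G) ⊓ ((x • P : Sylow 3 G) : Subgroup G) := ⟨hP, h2⟩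
    rw [ti hG (h P).symm, Subgroup.mem_bot] at h4
    rw [h4, orderOf_one] at ho
    omega
  have h2 : ¬ 2 ∣ orderOf x := by
    intro d
    have ho : orderOf (x ^ (orderOf x / 2)) = 2 := orderOf_pow_orderOf_div hn0 d
    obtain ⟨y, hy⟩ : ∃ y, y = x ^ (orderOf x / 2) := ⟨_, rfl⟩
    rw [← hy] at ho
    have hy2 : y ^ 2 = 1 := by
      rw [← ho]
      exact pow_orderOf_eq_one y
    have hy1 : y ≠ 1 := by
      rintro rfl
      rw [orderOf_one] at ho
      omega
    have hc : x * y = y * x := by
      rw [hy]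
      exact (Commute.refl x).pow_right _
    obtain ⟨P, Q, hne, hP, hQ⟩ := invol_fix hG hy2 hy1
    have hT : y ∈ T2 P Q := mem_T2.mpr ⟨hP, hQ⟩
    have hfixy := (invol_core hG hy2 hy1 hne hT).2
    have hperm : ∀ R : Sylow 3 G, y • R = R → y • (x • R) = x • R := by
      intro R hR
      rw [smul_smul, ← hc, mul_smul, hR]
    have hxP : x • P = Q := by
      rcases hfixy _ (hperm P hP) with h5 | h5
      · exact absurd h5 (h P)
      · exact h5
    have hxQ : x • Q = P := by
      rcases hfixy _ (hperm Q hQ) with h5 | h5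
      · exact h5
      · exact absurd h5 (h Q)
    have hT2 : x * x ∈ T2 P Q := by
      refine mem_T2.mpr ⟨?_, ?_⟩
      · rw [mul_smul, hxP, hxQ]
      · rw [mul_smul, hxQ, hxP]
    have h8 : x ^ 8 = 1 := by
      have h5 := pow_card_eq_one' (x := (⟨x * x, hT2⟩ : T2 P Q))
      rw [card_T2 hG hne] at h5
      have h6 := congrArg Subtype.val h5
      have h7 : (x * x) ^ 4 = 1 := h6
      rw [← h7]
      simp only [pow_succ, pow_zero, one_mul, mul_assoc]
    have hd8 : orderOf x ∣ 8 := orderOf_dvd_of_pow_eq_one h8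
    have hle : orderOf x ≤ 8 := Nat.le_of_dvd (by norm_num) hd8
    have hcases : orderOf x = 2 ∨ orderOf x = 4 ∨ orderOf x = 8 := by
      generalize orderOf x = n at *
      interval_cases n <;> first | omega | (exfalso; revert hd8; decide)
    rcases hcases with hk | hk | hk
    · rw [hk] at hy
      have h5 : y = x := by
        rw [hy]
        simp
      rw [h5] at hP
      exact h P hP
    · rw [hk] at hy
      have hy' : y = x * x := by
        rw [hy]
        simp [pow_two]
      have h5 := sign_swap_four (X := Sylow 3 G) (by rw [← Nat.card_eq_fintype_card, card_syl hG])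
        (MulAction.toPermHom G (Sylow 3 G) x) hne
        (by
          rw [← map_pow, ← hk, pow_orderOf_eq_one, map_one]) hxP hxQ
        (by
          intro R hR
          apply hfixy
          rw [hy', mul_smul]
          exact hR)
      rw [sign_eq_one hG] at h5
      exact absurd h5 (by decide)
    · have hcard : Nat.card (zpowers x) = 2 ^ (Nat.card G).factorization 2 := by
        rw [Nat.card_zpowers, hk, hG, show (360 : ℕ) = 2 ^ 3 * 45 by norm_num,
          factorization_of_card Nat.prime_two (by norm_num)]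
        norm_num
      let S : Sylow 2 G := Sylow.ofCard (zpowers x) hcard
      have hS : (S : Subgroup G) = zpowers x := rfl
      have hcyc : IsCyclic S := by
        show IsCyclic (S : Subgroup G)
        rw [hS]
        infer_instance
      obtain ⟨m, hm⟩ := Subgroup.card_dvd_of_le (Subgroup.le_normalizer (H := (S : Subgroup G)))
      exact false_of_cyclic_sylow (p := 2) (by rw [hG]; norm_num)
        (not_isPGroup_of_dvd (q := 3) (by norm_num) (by norm_num) (by norm_num) (by rw [hG]; norm_num)) S hcyc m hm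
        (Nat.coprime_one_right m)
  have hc2 : Nat.Coprime (orderOf x) 2 := ((Nat.Prime.coprime_iff_not_dvd Nat.prime_two).mpr h2).symm
  have hc3 : Nat.Coprime (orderOf x) 3 := ((Nat.Prime.coprime_iff_not_dvd Nat.prime_three).mpr h3).symm
  have hc72 : Nat.Coprime (orderOf x) (2 ^ 3 * 3 ^ 2) :=
    Nat.Coprime.mul_right (Nat.Coprime.pow_right 3 hc2) (Nat.Coprime.pow_right 2 hc3)
  have hd5 : orderOf x ∣ 5 := by
    apply hc72.dvd_of_dvd_mul_left
    have : (2 ^ 3 * 3 ^ 2 * 5 : ℕ) = 360 := by norm_num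
    rw [this]
    exact hn
  rcases (Nat.dvd_prime (by norm_num : Nat.Prime 5)).mp hd5 with h5 | h5
  · exfalso
    obtain ⟨P⟩ : Nonempty (Sylow 3 G) := inferInstance
    rw [orderOf_eq_one_iff] at h5
    apply h P
    rw [h5, one_smul]
  · exact h5

theorem exists_235 (hG : Nat.card G = 360) :
    ∃ a b : G, a ^ 2 = 1 ∧ a ≠ 1 ∧ b ^ 3 = 1 ∧ b ≠ 1 ∧ (a * b) ^ 5 = 1 ∧ a * b ≠ 1 := by
  classical
  letI : Fintype G := Fintype.ofFinite _
  letI : Fintype (Sylow 3 G) := Fintype.ofFinite _
  obtain ⟨b, hb⟩ := exists_prime_orderOf_dvd_card' (G := G) 3 (by rw [hG]; norm_num)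
  obtain ⟨P, hP⟩ := exists_sylow_of_orderOf hb
  have hb3 : b ^ 3 = 1 := by
    rw [← hb]
    exact pow_orderOf_eq_one b
  have hb1 : b ≠ 1 := by
    rintro rfl
    rw [orderOf_one] at hb
    omega
  obtain ⟨a, ha, ha1, hfpf⟩ := exists_fpf hG hP hb3 hb1
  have h5 := order_five hG hfpf
  refine ⟨a, b, ha, ha1, hb3, hb1, ?_, ?_⟩
  · rw [← h5]
    exact pow_orderOf_eq_one _
  · intro h
    rw [h, orderOf_one] at h5
    omega

theorem main_iso (hG : Nat.card G = 360) : Nonempty (G ≃* alternatingGroup (Fin 6)) := by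
  classical
  obtain ⟨a, b, ha, ha1, hb3, hb1, hc5, hc1⟩ := exists_235 hG
  have hinv : a⁻¹ = a := by
    rw [inv_eq_iff_mul_eq_one, ← pow_two, ha]
  let k : Set G := {b, (a * b)⁻¹}
  let A : Subgroup G := closure k
  have hbA : b ∈ A := Subgroup.subset_closure (Set.mem_insert _ _)
  have hyA : (a * b)⁻¹ ∈ A := Subgroup.subset_closure (Set.mem_insert_of_mem _ rfl)
  let x' : A := ⟨b, hbA⟩
  let y' : A := ⟨(a * b)⁻¹, hyA⟩
  have hxy : b * (a * b)⁻¹ = a := by
    have : b * (a * b)⁻¹ = a⁻¹ := by group
    rw [this, hinv]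
  have haA : a ∈ A := by
    rw [← hxy]
    exact A.mul_mem hbA hyA
  let a' : A := ⟨a, haA⟩
  have hax : x' * y' = a' := Subtype.ext hxy
  have hx3 : x' ^ 3 = 1 := Subtype.ext hb3
  have hy5 : y' ^ 5 = 1 := by
    apply Subtype.ext
    show ((a * b)⁻¹) ^ 5 = 1
    rw [inv_pow, hc5, inv_one]
  have ha2 : a' ^ 2 = 1 := Subtype.ext ha
  have hgen : closure ({x', y'} : Set A) = ⊤ := by
    rw [← Subgroup.closure_closure_coe_preimage (k := k)]
    congr 1
    ext ⟨u, hu⟩
    simp [k, x', y', Subtype.ext_iff]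
  have hle := (Cfsg.Agent.Lib.Recog.a5_card_le x' y' hx3 hy5 (by rw [hax]; exact ha2) hgen).2
  have hox : orderOf x' = 3 := orderOf_eq_prime hx3 (fun h => hb1 (congrArg Subtype.val h))
  have hoa : orderOf a' = 2 := orderOf_eq_prime ha2 (fun h => ha1 (congrArg Subtype.val h))
  haveI : Fact (Nat.Prime 5) := ⟨by norm_num⟩
  have hoy : orderOf y' = 5 := orderOf_eq_prime hy5 (fun h => hc1 (by
    have h1 : (a * b)⁻¹ = 1 := congrArg Subtype.val h
    exact inv_eq_one.mp h1))
  have h2d : 2 ∣ Nat.card A := hoa ▸ orderOf_dvd_natCard a'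
  have h3d : 3 ∣ Nat.card A := hox ▸ orderOf_dvd_natCard x'
  have h5d : 5 ∣ Nat.card A := hoy ▸ orderOf_dvd_natCard y'
  have hne30 : Nat.card A ≠ 30 := by
    intro h30
    letI : Fintype A := Fintype.ofFinite _
    let σ : A →* Equiv.Perm A := MulAction.toPermHom A A
    have hsupp : (σ a').support = Finset.univ := by
      ext u
      rw [Equiv.Perm.mem_support]
      simp only [Finset.mem_univ, iff_true]
      intro hu
      have h1 : a' * u = u := hu
      have h0 : a' = 1 := by simpa using h1
      rw [h0, orderOf_one] at hoa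
      omega
    have hcard : (σ a').support.card = 2 * 15 := by
      rw [hsupp, Finset.card_univ, ← Nat.card_eq_fintype_card, h30]
    have hsq : (σ a') ^ 2 = 1 := by
      rw [← map_pow, ha2, map_one]
    have hs := Cfsg.Agent.Lib.Struct.SylowTwoP.sign_of_involution (σ a') hsq hcard (by decide)
    have hunit : ∀ (u : ℤˣ) (n : ℕ), Odd n → u ^ n = 1 → u = 1 := by
      intro u n hn hu
      rcases Int.units_eq_one_or u with h | h
      · exact h
      · rw [h, hn.neg_one_pow] at hu
        exact absurd hu (by decide)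
    have hsx : Equiv.Perm.sign (σ x') = 1 := by
      apply hunit _ 3 (by decide)
      rw [← map_pow, ← map_pow, hx3, map_one, map_one]
    have hsy : Equiv.Perm.sign (σ y') = 1 := by
      apply hunit _ 5 (by decide)
      rw [← map_pow, ← map_pow, hy5, map_one, map_one]
    rw [← hax, map_mul, map_mul, hsx, hsy] at hs
    exact absurd hs (by decide)
  have h30d : 30 ∣ Nat.card A := by
    have h6 : 6 ∣ Nat.card A := Nat.Coprime.mul_dvd_of_dvd_of_dvd (by norm_num : Nat.Coprime 2 3) h2d h3d
    exact Nat.Coprime.mul_dvd_of_dvd_of_dvd (by norm_num : Nat.Coprime 6 5) h6 h5d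
  have hc60 : Nat.card A = 60 := by
    obtain ⟨m, hm⟩ := h30d
    have hpos : 0 < Nat.card A := Nat.card_pos
    have hm2 : m ≤ 2 := by omega
    interval_cases m <;> omega
  have hidx : A.index = 6 := by
    have h1 := Subgroup.card_mul_index A
    rw [hc60, hG] at h1
    omega
  have hne : A ≠ ⊤ := by
    intro h
    rw [h, Subgroup.index_top] at hidx
    omega
  obtain ⟨f, hf⟩ := exists_embed_alt (noncomm hG) A hne
  have key : ∀ n, n = 6 → ∀ f : G →* alternatingGroup (Fin n), Function.Injective f →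
      Nonempty (G ≃* alternatingGroup (Fin 6)) := by
    rintro n rfl f hf
    have hcard : Nat.card (alternatingGroup (Fin 6)) = 360 := by
      have h1 := two_mul_card_alternatingGroup (α := Fin 6)
      rw [Fintype.card_perm, Fintype.card_fin] at h1
      rw [Nat.card_eq_fintype_card]
      have h2 : Nat.factorial 6 = 720 := by decide
      omega
    have hb : Function.Bijective f := by
      rw [Nat.bijective_iff_injective_and_card]
      exact ⟨hf, by rw [hG, hcard]⟩
    exact ⟨MulEquiv.ofBijective f hb⟩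
  exact key _ hidx f hf

end Cfsg.Agent.Lib.A6Rec
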