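import Cfsg.Agent.Lib.A6Rec.D8c
import Cfsg.Agent.Lib.A6Rec.Final
import Cfsg.Agent.S0495
import Cfsg.Agent.S0848
import Cfsg.Agent.S0249
import Cfsg.Agent.Lib.SmallSimple.Sylow

/-!
# An involution with centralizer dihedral of order 8: the classification
-/

set_option autoImplicit false

namespace Cfsg.Agent.Lib.A6Rec

open Subgroup Cfsg

variable {G : Type*} [Group G] [Finite G] {z : G}

theorem CZ.z_mem_commutator (h : CZ z) : z ∈ commutator G := by
  by_contra hn
  have hcomm : ∀ x ∈ centralizer ({z} : Set G), ∀ u ∈ centralizer ({z} : Set G), x * u = u * x := by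
    intro x hx u hu
    rcases h.comm x hx u hu with h1 | h1
    · have h2 : x * u * x⁻¹ * u⁻¹ * u * x = u * x := by rw [h1, one_mul]
      rw [← h2]
      group
    · exfalso
      apply hn
      rw [← h1, commutator_def, ← commutatorElement_def]
      exact Subgroup.commutator_mem_commutator (Subgroup.mem_top x) (Subgroup.mem_top u)
  have hle : centralizer ({z} : Set G) ≤ zpowers z := by
    intro x hx
    by_cases hx1 : x = 1
    · rw [hx1]
      exact Subgroup.one_mem _
    · rw [h.center x hx (fun u hu => hcomm x hx u hu) hx1]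
      exact mem_zpowers z
  have h1 := Nat.card_le_card_of_injective _ (Subgroup.inclusion_injective hle)
  rw [h.card, Nat.card_zpowers] at h1
  have h2 : orderOf z ≤ 2 := orderOf_le_of_pow_eq_one (by norm_num) (by rw [pow_two, h.hz])
  omega

/-- An even normal subgroup contains `z`. -/
theorem CZ.z_mem_of_even (h : CZ z) (K : Subgroup G) (hK : K.Normal) (hd : 2 ∣ Nat.card K) : z ∈ K := by
  haveI : Fact (Nat.Prime 2) := ⟨Nat.prime_two⟩
  obtain ⟨⟨c, hc⟩, hco⟩ := exists_prime_orderOf_dvd_card' (G := K) 2 hd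
  rw [Subgroup.orderOf_mk] at hco
  have hc1 : c ≠ 1 := by
    rintro rfl
    simp at hco
  have hP : IsPGroup 2 (zpowers c) := by
    apply IsPGroup.of_card (n := 1)
    rw [Nat.card_zpowers, hco, pow_one]
  obtain ⟨T, hT⟩ := hP.exists_le_sylow
  have hcT : c ∈ (T : Subgroup G) := hT (mem_zpowers c)
  obtain ⟨S, hS⟩ := h.exists_sylow
  obtain ⟨g, hg⟩ := MulAction.exists_smul_eq G S T
  rw [← hg, Sylow.coe_subgroup_smul, Subgroup.mem_pointwise_smul_iff_inv_smul_mem, MulAut.smul_def,
    MulAut.conj_inv_apply, hS] at hcT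
  have hxK : g⁻¹ * c * g ∈ K := by
    have := hK.conj_mem c hc g⁻¹
    rwa [inv_inv] at this
  have hx1 : g⁻¹ * c * g ≠ 1 := by
    intro h1
    apply hc1
    have : c = g * (g⁻¹ * c * g) * g⁻¹ := by group
    rw [this, h1]
    group
  exact h.z_mem_of_normalized K (fun c _ x hx => hK.conj_mem x hx c) hxK hcT hx1

theorem CZ.top_of_central (hc : ∀ g : G, g * z = z * g) : centralizer ({z} : Set G) = ⊤ := by
  rw [eq_top_iff]
  intro g _
  exact Subgroup.mem_centralizer_singleton_iff.mpr (hc g)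

/-- A normal subgroup of order two containing `z`. -/
theorem central_of_card_two (H : Subgroup G) (hH : H.Normal) (hz : z ∈ H) (hz1 : z ≠ 1) (hc : Nat.card H = 2) :
    ∀ g : G, g * z = z * g := by
  intro g
  have h1 : g * z * g⁻¹ ∈ H := hH.conj_mem z hz g
  have hne : g * z * g⁻¹ ≠ 1 := by
    intro h3
    apply hz1
    have : z = g⁻¹ * (g * z * g⁻¹) * g := by group
    rw [this, h3]
    group
  have h2 : g * z * g⁻¹ = z := by
    by_contra hcon
    classical
    letI : Fintype H := Fintype.ofFinite H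
    have hsub : ({1, z, g * z * g⁻¹} : Finset G) ⊆ (Finset.univ : Finset H).image (fun u => u.1) := by
      intro w hw
      simp only [Finset.mem_insert, Finset.mem_singleton] at hw
      rcases hw with rfl | rfl | rfl
      · exact Finset.mem_image.mpr ⟨1, Finset.mem_univ _, rfl⟩
      · exact Finset.mem_image.mpr ⟨⟨_, hz⟩, Finset.mem_univ _, rfl⟩
      · exact Finset.mem_image.mpr ⟨⟨_, h1⟩, Finset.mem_univ _, rfl⟩
    have h4 := Finset.card_le_card hsub
    have h5 := Finset.card_image_le (s := (Finset.univ : Finset H)) (f := fun u => u.1)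
    rw [Finset.card_univ, ← Nat.card_eq_fintype_card, hc] at h5
    have h6 : ({1, z, g * z * g⁻¹} : Finset G).card = 3 := by
      rw [Finset.card_insert_of_notMem, Finset.card_pair (Ne.symm hcon)]
      simp only [Finset.mem_insert, Finset.mem_singleton, not_or]
      exact ⟨hz1.symm, hne.symm⟩
    omega
  exact mul_inv_eq_iff_eq_mul.mp h2

/-- A subgroup containing all odd-order elements of a normal subgroup, of odd order, is normal. -/
theorem normal_of_odd_elements (H K : Subgroup G) (hH : H.Normal) (hKH : K ≤ H)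
    (hK : ∀ x ∈ H, Nat.Coprime (orderOf x) 2 → x ∈ K) (hodd : Nat.Coprime (Nat.card K) 2) : K.Normal := by
  refine ⟨fun x hx g => ?_⟩
  apply hK _ (hH.conj_mem x (hKH hx) g)
  have h1 := MulEquiv.orderOf_eq (MulAut.conj g) x
  rw [MulAut.conj_apply] at h1
  rw [h1]
  have h2 : orderOf x ∣ Nat.card K := by
    have := orderOf_dvd_natCard (⟨x, hx⟩ : K)
    rwa [Subgroup.orderOf_mk] at this
  exact Nat.Coprime.coprime_dvd_left h2 hodd

theorem mem_of_index_two_of_odd {Y : Type*} [Group Y] [Finite Y] (N : Subgroup Y) (hN : N.index = 2) {x : Y}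
    (hx : Nat.Coprime (orderOf x) 2) : x ∈ N := by
  have h1 : Odd (orderOf x) := Nat.coprime_two_right.mp hx
  obtain ⟨m, hm⟩ := h1
  have h2 : x = (x ^ (m + 1)) * (x ^ (m + 1)) := by
    rw [← pow_add, show m + 1 + (m + 1) = (2 * m + 1) + 1 by ring, pow_succ, ← hm, pow_orderOf_eq_one, one_mul]
  rw [h2]
  exact Subgroup.mul_self_mem_of_index_two hN _

theorem eq_bot_of_normal_odd (hO : oddCore G = ⊥) (K : Subgroup G) (hK : K.Normal) (hodd : Nat.Coprime (Nat.card K) 2) :
    K = ⊥ := by
  have h1 := Cfsg.Agent.Lib.Components.le_pPrimeCore hK hodd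
  rw [show pPrimeCore 2 G = ⊥ from hO] at h1
  exact le_bot_iff.mp h1

/-- The case `|H| = 2b`. -/
theorem central_of_two_odd (hO : oddCore G = ⊥) (hz1 : z ≠ 1) (H : Subgroup G) (hH : H.Normal) (hz : z ∈ H) {b : ℕ}
    (hc : Nat.card H = 2 * b) (hb : Odd b) : ∀ g : G, g * z = z * g := by
  obtain ⟨K₀, hK₀, -⟩ := two_odd_index hc hb
  have hK₀c : Nat.card K₀ * 2 = 2 * b := by
    rw [← hc, ← hK₀]
    exact Subgroup.card_mul_index K₀
  have hK₀b : Nat.card K₀ = b := by omega
  let K : Subgroup G := K₀.map H.subtype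
  have hKc : Nat.card K = Nat.card K₀ := Nat.card_congr (K₀.equivMapOfInjective _ H.subtype_injective).symm.toEquiv
  have hKodd : Nat.Coprime (Nat.card K) 2 := by
    rw [hKc, hK₀b]
    exact Nat.coprime_two_right.mpr hb
  have hKn : K.Normal := by
    apply normal_of_odd_elements H K hH (Subgroup.map_subtype_le K₀) _ hKodd
    intro x hx hxo
    refine ⟨⟨x, hx⟩, ?_, rfl⟩
    apply mem_of_index_two_of_odd K₀ hK₀
    rw [Subgroup.orderOf_mk]
    exact hxo
  have hKbot := eq_bot_of_normal_odd hO K hKn hKodd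
  have hb1 : b = 1 := by
    have h1 := Subgroup.card_bot (G := G)
    rw [← hKbot, hKc, hK₀b] at h1
    exact h1
  subst hb1
  exact central_of_card_two H hH hz hz1 (by rw [hc])

/-- The case of a cyclic Sylow subgroup of order 4. -/
theorem central_of_cyclic (hO : oddCore G = ⊥) (hz1 : z ≠ 1) (hzz : z * z = 1) (H : Subgroup G) (hH : H.Normal) (hz : z ∈ H)
    {b : ℕ} (hc : Nat.card H = 4 * b) (hb : Odd b) {x : G} (hx : x ∈ H) (hx2 : x * x ≠ 1) (hx4 : x ^ 4 = 1) :
    ∀ g : G, g * z = z * g := by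
  have hox : orderOf x = 4 := by
    have h := orderOf_eq_prime_pow (x := x) (p := 2) (n := 1) (by
      simp only [pow_one]
      rw [pow_two]
      exact hx2) (by simpa using hx4)
    simpa using h
  obtain ⟨N₁, hN₁, -⟩ := Cfsg.Agent.Lib.Perm.zf_index_two_char (⟨x, hx⟩ : H)
    (by rw [Subgroup.orderOf_mk, hox]; decide) b (by rw [Subgroup.orderOf_mk, hox, hc]) hb
  have hN₁c : Nat.card N₁ = 2 * b := by
    have h1 := Subgroup.card_mul_index N₁
    rw [hN₁, hc] at h1
    omega
  obtain ⟨K₀, hK₀, -⟩ := two_odd_index hN₁c hb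
  have hK₀c : Nat.card K₀ * 2 = 2 * b := by
    rw [← hN₁c, ← hK₀]
    exact Subgroup.card_mul_index K₀
  have hK₀b : Nat.card K₀ = b := by omega
  let K : Subgroup G := (K₀.map N₁.subtype).map H.subtype
  have hKc : Nat.card K = Nat.card K₀ := by
    have h1 : Nat.card (K₀.map N₁.subtype) = Nat.card K₀ :=
      Nat.card_congr (K₀.equivMapOfInjective _ N₁.subtype_injective).symm.toEquiv
    have h2 : Nat.card K = Nat.card (K₀.map N₁.subtype) :=
      Nat.card_congr ((K₀.map N₁.subtype).equivMapOfInjective _ H.subtype_injective).symm.toEquiv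
    rw [h2, h1]
  have hKodd : Nat.Coprime (Nat.card K) 2 := by
    rw [hKc, hK₀b]
    exact Nat.coprime_two_right.mpr hb
  have hKn : K.Normal := by
    apply normal_of_odd_elements H K hH (Subgroup.map_subtype_le _) _ hKodd
    intro y hy hyo
    have h1 : (⟨y, hy⟩ : H) ∈ N₁ := by
      apply mem_of_index_two_of_odd N₁ hN₁
      rw [Subgroup.orderOf_mk]
      exact hyo
    refine ⟨⟨y, hy⟩, ⟨⟨⟨y, hy⟩, h1⟩, ?_, rfl⟩, rfl⟩
    apply mem_of_index_two_of_odd K₀ hK₀
    rw [Subgroup.orderOf_mk, Subgroup.orderOf_mk]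
    exact hyo
  have hKbot := eq_bot_of_normal_odd hO K hKn hKodd
  have hb1 : b = 1 := by
    have h1 := Subgroup.card_bot (G := G)
    rw [← hKbot, hKc, hK₀b] at h1
    exact h1
  subst hb1
  -- now `H` is cyclic of order 4 generated by `x`
  have hHc : Nat.card H = 4 := by rw [hc]
  have hle : zpowers x ≤ H := zpowers_le.mpr hx
  have hHeq : zpowers x = H := Subgroup.eq_of_le_of_card_ge hle (by rw [hHc, Nat.card_zpowers, hox])
  have hx1 : x ≠ 1 := by
    rintro rfl
    simp at hx2
  have huniq : ∀ y ∈ H, y * y = 1 → y ≠ 1 → y = x * x := by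
    intro y hy hyy hy1
    rw [← hHeq] at hy
    obtain ⟨k, rfl⟩ := Subgroup.mem_zpowers_iff.mp hy
    have hk : ((2 * k : ℤ) : ℤ) % 4 = 0 := by
      have h1 : x ^ (2 * k) = 1 := by
        rw [two_mul, zpow_add]
        exact hyy
      have h2 := orderOf_dvd_iff_zpow_eq_one.mpr h1
      rw [hox] at h2
      omega
    have hk1 : k % 4 ≠ 0 := by
      intro h0
      apply hy1
      have h2 : ((orderOf x : ℕ) : ℤ) ∣ k := by
        rw [hox]
        omega
      exact orderOf_dvd_iff_zpow_eq_one.mp h2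
    have hk2 : (k - 2) % 4 = 0 := by omega
    have h3 : x ^ (k - 2) = 1 := by
      apply orderOf_dvd_iff_zpow_eq_one.mp
      rw [hox]
      omega
    have h4 : x ^ k = x ^ (k - 2) * (x * x) := by
      rw [← pow_two, ← zpow_natCast, ← zpow_add]
      congr 1
      simp
    rw [h4, h3, one_mul]
  intro g
  have h1 : g * z * g⁻¹ ∈ H := hH.conj_mem z hz g
  have hne : g * z * g⁻¹ ≠ 1 := by
    intro h3
    apply hz1
    have : z = g⁻¹ * (g * z * g⁻¹) * g := by group
    rw [this, h3]
    group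
  have h2 : (g * z * g⁻¹) * (g * z * g⁻¹) = 1 := by
    calc (g * z * g⁻¹) * (g * z * g⁻¹) = g * (z * z) * g⁻¹ := by group
      _ = 1 := by rw [hzz]; group
  have h3 := huniq _ h1 h2 hne
  have h4 := huniq z hz hzz hz1
  rw [← h4] at h3
  exact mul_inv_eq_iff_eq_mul.mp h3

end Cfsg.Agent.Lib.A6Rec
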