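import Cfsg.Agent.Lib.A6Rec.D8d

/-!
# An involution with centralizer dihedral of order 8: identifications
-/

set_option autoImplicit false

namespace Cfsg.Agent.Lib.A6Rec

open Subgroup Cfsg

variable {G : Type*} [Group G] [Finite G] {z : G}

theorem iso_perm_of_injective {Ω : Type*} [Fintype Ω] [DecidableEq Ω] {n : ℕ} (hΩ : Fintype.card Ω = n)
    (f : G →* Equiv.Perm Ω) (hf : Function.Injective f) (hG : Nat.card G = n.factorial) :
    Nonempty (G ≃* Equiv.Perm (Fin n)) := by
  let e : Ω ≃ Fin n := Fintype.equivFinOfCardEq hΩ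
  let F : G →* Equiv.Perm (Fin n) := (e.permCongrHom).toMonoidHom.comp f
  have hF : Function.Injective F := e.permCongrHom.injective.comp hf
  have hb : Function.Bijective F :=
    (Nat.bijective_iff_injective_and_card F).mpr
      ⟨hF, by rw [hG, Nat.card_eq_fintype_card, Fintype.card_perm, Fintype.card_fin]⟩
  exact ⟨MulEquiv.ofBijective F hb⟩

/-- Order 24. -/
theorem s4_of (h : CZ z) (hG : Nat.card G = 24) (hO : oddCore G = ⊥)
    (hV : ∀ K : Subgroup G, K.Normal → z ∈ K → 4 ∣ Nat.card K) : Nonempty (G ≃* Equiv.Perm (Fin 4)) := by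
  classical
  obtain ⟨P⟩ : Nonempty (Sylow 3 G) := inferInstance
  have hP : Nat.card (P : Subgroup G) = 3 := by
    have := Cfsg.Agent.Lib.SmallSimple.sylow_card_of_eq (a := 1) (m := 8) P (by rw [hG]; norm_num) (by norm_num)
    simpa using this
  have hN := Cfsg.Agent.Lib.SmallSimple.card_normalizer_mul_card_sylow 3 P
  have hd3 : 3 ∣ Nat.card (normalizer (P : Set G)) := by
    have h1 := Subgroup.card_dvd_of_le (Subgroup.le_normalizer (H := (P : Subgroup G)))
    rw [hP] at h1
    exact h1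
  have hmod : Nat.card (Sylow 3 G) % 3 = 1 := card_sylow_modEq_one 3 G
  rw [hG] at hN
  obtain ⟨k, hk⟩ := hd3
  have hn : Nat.card (Sylow 3 G) = 1 ∨ Nat.card (Sylow 3 G) = 4 := by
    rw [hk] at hN
    have h8 : k * Nat.card (Sylow 3 G) = 8 := by nlinarith
    have hd : Nat.card (Sylow 3 G) ∣ 8 := ⟨k, by rw [← h8]; ring⟩
    have hle := Nat.le_of_dvd (by norm_num) hd
    generalize Nat.card (Sylow 3 G) = n at *
    interval_cases n <;> first | omega | (exfalso; revert hd; decide)
  rcases hn with hn | hn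
  · exfalso
    have hidx : (normalizer (P : Set G)).index = 1 := by
      rw [← Sylow.card_eq_index_normalizer P]
      exact hn
    have htop : normalizer ((P : Subgroup G) : Set G) = ⊤ := Subgroup.index_eq_one.mp hidx
    have hnorm : (P : Subgroup G).Normal := Subgroup.normalizer_eq_top_iff.mp htop
    have hbot := eq_bot_of_normal_odd hO (P : Subgroup G) hnorm (by rw [hP]; norm_num)
    rw [hbot, Subgroup.card_bot] at hP
    omega
  · have hNc : Nat.card (normalizer (P : Set G)) = 6 := by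
      rw [hn] at hN
      omega
    letI : Fintype (Sylow 3 G) := Fintype.ofFinite _
    let σ : G →* Equiv.Perm (Sylow 3 G) := MulAction.toPermHom G (Sylow 3 G)
    have hKle : σ.ker ≤ normalizer ((P : Subgroup G) : Set G) := by
      intro x hx
      have h1 : σ x = 1 := hx
      have h2 : x • P = P := by
        have := congrArg (fun τ : Equiv.Perm (Sylow 3 G) => τ P) h1
        simpa [σ] using this
      have h3 : x ∈ MulAction.stabilizer G P := h2
      rw [Sylow.stabilizer_eq_normalizer] at h3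
      exact h3
    have hKd : Nat.card σ.ker ∣ 6 := by
      rw [← hNc]
      exact Subgroup.card_dvd_of_le hKle
    have hinj : Function.Injective σ := by
      rw [← MonoidHom.ker_eq_bot_iff]
      by_cases hev : 2 ∣ Nat.card σ.ker
      · exfalso
        have hzK := h.z_mem_of_even σ.ker inferInstance hev
        have h4 := hV σ.ker inferInstance hzK
        have h5 : 4 ∣ 6 := h4.trans hKd
        revert h5
        decide
      · exact eq_bot_of_normal_odd hO σ.ker inferInstance
          ((Nat.Prime.coprime_iff_not_dvd Nat.prime_two).mpr hev).symm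
    exact iso_perm_of_injective (by rw [← Nat.card_eq_fintype_card, hn]) σ hinj (by rw [hG]; decide)

/-- Order 120. -/
theorem s5_of (h : CZ z) (hG : Nat.card G = 120) (hO : oddCore G = ⊥) (H : Subgroup G) (hH : H.Normal) (hz : z ∈ H)
    {b : ℕ} {c : H} (hkc : KC (⟨z, hz⟩ : H) c b)
    (hnn : ¬ (centralizer ({(⟨z, hz⟩ : H)} : Set H)).Normal) (hs : IsSimpleGroup H) :
    Nonempty (G ≃* Equiv.Perm (Fin 5)) := by
  classical
  let V' : Subgroup H := centralizer ({(⟨z, hz⟩ : H)} : Set H)
  let V : Subgroup G := V'.map H.subtype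
  have hmemV : ∀ u : G, u ∈ V ↔ u ∈ H ∧ u * z = z * u := by
    intro u
    constructor
    · rintro ⟨⟨v, hv⟩, hvV, rfl⟩
      refine ⟨hv, ?_⟩
      exact congrArg Subtype.val (Subgroup.mem_centralizer_singleton_iff.mp hvV)
    · rintro ⟨hu, huz⟩
      exact ⟨⟨u, hu⟩, Subgroup.mem_centralizer_singleton_iff.mpr (Subtype.ext huz), rfl⟩
  let Y : Subgroup G := normalizer (V : Set G)
  have hCY : centralizer ({z} : Set G) ≤ Y := by
    have key : ∀ g ∈ centralizer ({z} : Set G), ∀ u ∈ V, g * u * g⁻¹ ∈ V := by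
      intro g hg u hu
      obtain ⟨hu1, hu2⟩ := (hmemV u).mp hu
      have hg' := Subgroup.mem_centralizer_singleton_iff.mp hg
      refine (hmemV _).mpr ⟨hH.conj_mem u hu1 g, ?_⟩
      have hg'' : g⁻¹ * z = z * g⁻¹ := by
        have h1 : g⁻¹ * (g * z) * g⁻¹ = g⁻¹ * (z * g) * g⁻¹ := by rw [hg']
        have h2 : g⁻¹ * (g * z) * g⁻¹ = z * g⁻¹ := by group
        have h3 : g⁻¹ * (z * g) * g⁻¹ = g⁻¹ * z := by group
        rw [h2, h3] at h1
        exact h1.symm
      calc g * u * g⁻¹ * z = g * u * (g⁻¹ * z) := by group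
        _ = g * u * (z * g⁻¹) := by rw [hg'']
        _ = g * (u * z) * g⁻¹ := by group
        _ = g * (z * u) * g⁻¹ := by rw [hu2]
        _ = (g * z) * u * g⁻¹ := by group
        _ = (z * g) * u * g⁻¹ := by rw [hg']
        _ = z * (g * u * g⁻¹) := by group
    intro g hg
    rw [Subgroup.mem_normalizer_iff]
    intro u
    refine ⟨key g hg u, fun hu => ?_⟩
    have := key g⁻¹ ((centralizer ({z} : Set G)).inv_mem hg) _ hu
    have h2 : g⁻¹ * (g * u * g⁻¹) * g⁻¹⁻¹ = u := by group
    rwa [h2] at this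
  have hcY : (c : G) ∈ Y := by
    rw [Subgroup.mem_normalizer_iff]
    intro u
    have hcN := hkc.cN
    rw [Subgroup.mem_normalizer_iff] at hcN
    constructor
    · rintro ⟨v, hv, rfl⟩
      refine ⟨c * v * c⁻¹, (hcN v).mp hv, ?_⟩
      simp
    · rintro ⟨v, hv, hve⟩
      have huH : u ∈ H := by
        have h1 : (c : G) * u * (c : G)⁻¹ ∈ H := by
          rw [← hve]
          exact v.2
        have h2 : u = (c : G)⁻¹ * ((c : G) * u * (c : G)⁻¹) * (c : G) := by group
        rw [h2]
        exact H.mul_mem (H.mul_mem (H.inv_mem c.2) h1) c.2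
      have h3 : (⟨u, huH⟩ : H) ∈ V' := by
        rw [hcN]
        have h4 : c * ⟨u, huH⟩ * c⁻¹ = v := by
          apply Subtype.ext
          exact hve.symm
        rw [h4]
        exact hv
      exact ⟨⟨u, huH⟩, h3, rfl⟩
  have h8 : 8 ∣ Nat.card Y := by
    rw [← h.card]
    exact Subgroup.card_dvd_of_le hCY
  have h3 : 3 ∣ Nat.card Y := by
    have h1 : orderOf (⟨_, hcY⟩ : Y) ∣ Nat.card Y := orderOf_dvd_natCard _
    rw [Subgroup.orderOf_mk, Subgroup.orderOf_coe] at h1
    exact hkc.three_dvd.trans h1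
  have h24 : 24 ∣ Nat.card Y := Nat.Coprime.mul_dvd_of_dvd_of_dvd (by norm_num : Nat.Coprime 8 3) h8 h3
  have hYtop : Y ≠ ⊤ := by
    intro htop
    apply hnn
    refine ⟨fun u hu x => ?_⟩
    have h1 : (x : G) ∈ Y := htop ▸ Subgroup.mem_top _
    rw [Subgroup.mem_normalizer_iff] at h1
    have h2 : (u : G) ∈ V := ⟨u, hu, rfl⟩
    have h3 := (h1 u).mp h2
    obtain ⟨h4, h5⟩ := (hmemV _).mp h3
    exact Subgroup.mem_centralizer_singleton_iff.mpr (Subtype.ext h5)
  have hidx : Y.index = 5 := by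
    have h1 := Subgroup.card_mul_index Y
    rw [hG] at h1
    obtain ⟨k, hk⟩ := h24
    rw [hk] at h1
    have h2 : k * Y.index = 5 := by nlinarith
    have h3 : Y.index ∣ 5 := ⟨k, by rw [← h2]; ring⟩
    rcases (Nat.dvd_prime (by norm_num : Nat.Prime 5)).mp h3 with h4 | h4
    · exact absurd (Subgroup.index_eq_one.mp h4) hYtop
    · exact h4
  letI : Fintype (G ⧸ Y) := Fintype.ofFinite _
  let σ : G →* Equiv.Perm (G ⧸ Y) := MulAction.toPermHom G (G ⧸ Y)
  have hKle : σ.ker ≤ Y := by
    intro x hx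
    have h1 : σ x = 1 := hx
    have h2 : x • ((1 : G) : G ⧸ Y) = ((1 : G) : G ⧸ Y) := by
      have := congrArg (fun τ : Equiv.Perm (G ⧸ Y) => τ ((1 : G) : G ⧸ Y)) h1
      simpa [σ] using this
    have h3 : ((x * 1 : G) : G ⧸ Y) = ((1 : G) : G ⧸ Y) := h2
    have h4 := QuotientGroup.eq.mp h3
    simpa using h4
  have hinj : Function.Injective σ := by
    rw [← MonoidHom.ker_eq_bot_iff]
    by_contra hne
    have hev : 2 ∣ Nat.card σ.ker := by
      by_contra hev
      exact hne (eq_bot_of_normal_odd hO σ.ker inferInstance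
        ((Nat.Prime.coprime_iff_not_dvd Nat.prime_two).mpr hev).symm)
    have hzK := h.z_mem_of_even σ.ker inferInstance hev
    have hn : (σ.ker.subgroupOf H).Normal := inferInstance
    rcases hs.eq_bot_or_eq_top_of_normal _ hn with h1 | h1
    · have h2 : (⟨z, hz⟩ : H) ∈ σ.ker.subgroupOf H := Subgroup.mem_subgroupOf.mpr hzK
      rw [h1, Subgroup.mem_bot] at h2
      exact h.hz1 (congrArg Subtype.val h2)
    · apply hnn
      refine ⟨fun u hu x => ?_⟩
      have h2 : x ∈ σ.ker.subgroupOf H := h1 ▸ Subgroup.mem_top x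
      have h3 : (x : G) ∈ Y := hKle (Subgroup.mem_subgroupOf.mp h2)
      rw [Subgroup.mem_normalizer_iff] at h3
      have h4 : (u : G) ∈ V := ⟨u, hu, rfl⟩
      have h5 := (h3 u).mp h4
      obtain ⟨h6, h7⟩ := (hmemV _).mp h5
      exact Subgroup.mem_centralizer_singleton_iff.mpr (Subtype.ext h7)
  exact iso_perm_of_injective (n := 5) (by rw [← Nat.card_eq_fintype_card]; exact hidx) σ hinj (by rw [hG]; decide)

/-- The special linear group. -/
abbrev SL32 := Matrix.SpecialLinearGroup (Fin 3) (ZMod 2)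

theorem card_SL32 : Nat.card SL32 = 168 := by
  rw [Nat.card_eq_fintype_card]
  decide +kernel

theorem center_SL32 : Subgroup.center SL32 = ⊥ := by
  rw [eq_bot_iff]
  intro x hx
  rw [Matrix.SpecialLinearGroup.mem_center_iff] at hx
  obtain ⟨r, hr, hx⟩ := hx
  have h2 : ∀ r : ZMod 2, r ^ Fintype.card (Fin 3) = 1 → r = 1 := by decide
  have hr1 : r = 1 := h2 r hr
  rw [Subgroup.mem_bot]
  apply Subtype.ext
  show (x : Matrix (Fin 3) (Fin 3) (ZMod 2)) = 1
  rw [← hx, hr1, map_one]

theorem sl32_simple : IsSimpleGroup SL32 := by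
  have h := Cfsg.Agent.S0249.result (F := ZMod 2) 3 (by norm_num)
  have e : SL32 ≃* Matrix.ProjectiveSpecialLinearGroup (Fin 3) (ZMod 2) := by
    unfold Matrix.ProjectiveSpecialLinearGroup
    exact (QuotientGroup.quotientBot.symm).trans (QuotientGroup.quotientMulEquivOfEq center_SL32.symm)
  have := h
  exact e.isSimpleGroup

theorem iso_sl32 [IsSimpleGroup G] (hG : Nat.card G = 168) : Nonempty (G ≃* SL32) := by
  haveI : Fact (Nat.Prime 7) := ⟨by norm_num⟩
  obtain ⟨e₁⟩ := Cfsg.Agent.S0495.result hG (F := ZMod 7) (ZMod.card 7)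
  haveI := sl32_simple
  obtain ⟨e₂⟩ := Cfsg.Agent.S0495.result card_SL32 (F := ZMod 7) (ZMod.card 7)
  exact ⟨e₁.trans e₂.symm⟩

end Cfsg.Agent.Lib.A6Rec
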