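import Cfsg.Agent.Lib.A6Rec.D8e

/-!
# An involution with centralizer dihedral of order 8: the classification
-/

set_option autoImplicit false

namespace Cfsg.Agent.Lib.A6Rec

open Subgroup Cfsg

variable {G : Type*} [Group G] [Finite G] {z : G}

theorem core_bot (hO : oddCore G = ⊥) (H : Subgroup G) (hH : H.Normal) : pPrimeCore 2 H = ⊥ := by
  let O₁ : Subgroup H := pPrimeCore 2 H
  have hO₁ : O₁.Normal := inferInstance
  have hodd : Nat.Coprime (Nat.card O₁) 2 := Cfsg.Agent.Lib.Components.coprime_card_pPrimeCore 2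
  let D : Subgroup G := O₁.map H.subtype
  have hDc : Nat.card D = Nat.card O₁ := Nat.card_congr (O₁.equivMapOfInjective _ H.subtype_injective).symm.toEquiv
  have hDn : D.Normal := by
    refine ⟨?_⟩
    rintro _ ⟨y, hy, rfl⟩ g
    haveI := hH
    let φ : H ≃* H := MulAut.conjNormal g
    have hmap : O₁.map φ.toMonoidHom ≤ O₁ := by
      apply Cfsg.Agent.Lib.Components.le_pPrimeCore
      · exact hO₁.map φ.toMonoidHom φ.surjective
      · have : Nat.card (O₁.map φ.toMonoidHom) = Nat.card O₁ :=
          Nat.card_congr (O₁.equivMapOfInjective _ φ.injective).symm.toEquiv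
        rw [this]
        exact hodd
    have h1 : φ y ∈ O₁ := hmap ⟨y, hy, rfl⟩
    exact ⟨φ y, h1, MulAut.conjNormal_apply g y⟩
  have hDbot := eq_bot_of_normal_odd hO D hDn (by rw [hDc]; exact hodd)
  rw [eq_bot_iff]
  intro y hy
  have h1 : (y : G) ∈ D := ⟨y, hy, rfl⟩
  rw [hDbot, Subgroup.mem_bot] at h1
  exact Subgroup.mem_bot.mpr (Subtype.ext h1)

/-- The Klein data. -/
theorem CZ.kb (h : CZ z) (hO : oddCore G = ⊥) (H : Subgroup G) (hH : H.Normal) (hz : z ∈ H)
    (hs : Nat.card (H.subgroupOf (centralizer ({z} : Set G))) = 4)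
    (hexp : ∀ x ∈ centralizer ({z} : Set G), x ∈ H → x * x = 1) {b : ℕ} (hc : Nat.card H = 4 * b) (hb : Odd b) :
    KB (⟨z, hz⟩ : H) b := by
  refine ⟨Subtype.ext h.hz, fun e => h.hz1 (congrArg Subtype.val e), ?_, ?_, hc, hb, core_bot hO H hH⟩
  · rw [← hs]
    apply Nat.card_congr
    exact
      { toFun := fun x => ⟨⟨x.1.1, Subgroup.mem_centralizer_singleton_iff.mpr
            (congrArg Subtype.val (Subgroup.mem_centralizer_singleton_iff.mp x.2))⟩,
            Subgroup.mem_subgroupOf.mpr x.1.2⟩
        invFun := fun x => ⟨⟨x.1.1, Subgroup.mem_subgroupOf.mp x.2⟩, Subgroup.mem_centralizer_singleton_iff.mpr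
            (Subtype.ext (Subgroup.mem_centralizer_singleton_iff.mp x.1.2))⟩
        left_inv := fun x => rfl
        right_inv := fun x => rfl }
  · intro x hx
    apply Subtype.ext
    exact hexp x.1 (Subgroup.mem_centralizer_singleton_iff.mpr
      (congrArg Subtype.val (Subgroup.mem_centralizer_singleton_iff.mp hx))) x.2

/-- The classification. -/
theorem CZ.classify (h : CZ z) (hzo : orderOf z = 2) (e : centralizer ({z} : Set G) ≃* DihedralGroup 4) :
    centralizer ({z} : Set G) ⊔ oddCore G = ⊤ ∨ Nonempty (G ≃* Equiv.Perm (Fin 4)) ∨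
      Nonempty (G ≃* Equiv.Perm (Fin 5)) ∨ Nonempty (G ≃* SL32) ∨ Nonempty (G ≃* alternatingGroup (Fin 6)) := by
  classical
  by_cases hO : oddCore G = ⊥
  swap
  · left
    exact h.sup_odd (oddCore G) inferInstance (Cfsg.Agent.Lib.Components.coprime_card_pPrimeCore 2) hO
  let H : Subgroup G := commutator G
  have hHn : H.Normal := normal_of_commutator_le' _ le_rfl
  haveI := hHn
  have hz : z ∈ H := h.z_mem_commutator
  have hcen : (∀ g : G, g * z = z * g) → centralizer ({z} : Set G) ⊔ oddCore G = ⊤ := by
    intro hc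
    rw [CZ.top_of_central hc, top_sup_eq]
  obtain ⟨s, r, a, b, hs, hsr, hr, hNidx, ha, hbo, hNc⟩ := h.normal_numbers H
  obtain ⟨k, hk⟩ := h.index_pow_of_sup H h.sup_commutator
  have ha1 : a = 1 := by
    have h1 : a ∣ 2 ^ k := by
      rw [← hk, hNidx]
      exact dvd_mul_left a r
    obtain ⟨j, -, hj⟩ := (Nat.dvd_prime_pow Nat.prime_two).mp h1
    by_cases hj0 : j = 0
    · rw [hj, hj0, pow_zero]
    · exfalso
      rw [hj] at ha
      exact (Nat.not_even_iff_odd.mpr ha) ((Nat.even_pow.mpr ⟨even_two, hj0⟩))
  subst ha1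
  rw [mul_one] at hNidx
  have hsd : s ∣ 8 := ⟨r, hsr.symm⟩
  have hcases : s = 1 ∨ s = 2 ∨ s = 4 ∨ s = 8 := by
    have hle := Nat.le_of_dvd (by norm_num) hsd
    interval_cases s <;> first | omega | (exfalso; revert hsd; decide)
  rcases hcases with rfl | rfl | rfl | rfl
  · exfalso
    have h1 : H.subgroupOf (centralizer ({z} : Set G)) = ⊥ := (Subgroup.eq_bot_iff_card _).mpr hs.symm
    have h2 : (⟨z, self_mem_C z⟩ : centralizer ({z} : Set G)) ∈ H.subgroupOf (centralizer ({z} : Set G)) :=
      Subgroup.mem_subgroupOf.mpr hz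
    rw [h1, Subgroup.mem_bot] at h2
    exact h.hz1 (congrArg Subtype.val h2)
  · left
    exact hcen (central_of_two_odd hO h.hz1 H hHn hz hNc hbo)
  · -- a subgroup of index two
    have hr2 : r = 2 := by omega
    subst hr2
    by_cases hexp : ∀ x ∈ centralizer ({z} : Set G), x ∈ H → x * x = 1
    · have hkb := h.kb hO H hHn hz hs.symm hexp hNc hbo
      have hGc : Nat.card G = Nat.card H * 2 := by
        rw [← Subgroup.card_mul_index H, hNidx]
      rcases hkb.branch with hb1 | ⟨c, hkc, hn, hb3⟩ | ⟨c, hkc, hnn, hsimple⟩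
      · left
        have h8 : Nat.card (centralizer ({z} : Set G)) = Nat.card G := by
          rw [h.card, hGc, hNc, hb1]
        rw [Subgroup.eq_top_of_card_eq _ h8, top_sup_eq]
      · right; left
        apply s4_of h (by rw [hGc, hNc, hb3]) hO
        intro K hK hzK
        let W : Subgroup G := (centralizer ({(⟨z, hz⟩ : H)} : Set H)).map H.subtype
        have hWc : Nat.card W = 4 := by
          rw [← hkb.hcard]
          exact Nat.card_congr ((centralizer ({(⟨z, hz⟩ : H)} : Set H)).equivMapOfInjective _ H.subtype_injective).symm.toEquiv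
        have hWK : W ≤ K := by
          rintro _ ⟨x, hx, rfl⟩
          have hcG := hK.conj_mem z hzK (c : G)
          have hcG2 := hK.conj_mem _ hcG (c : G)
          rcases hkc.memV x hx with rfl | rfl | rfl | rfl
          · exact K.one_mem
          · exact hzK
          · exact hcG
          · exact hcG2
        rw [← hWc]
        exact Subgroup.card_dvd_of_le hWK
      · right; right; left
        have hKlein : IsKleinFour ↥(centralizer ({(⟨z, hz⟩ : H)} : Set H)) := by
          haveI : Fact (Nat.Prime 2) := ⟨Nat.prime_two⟩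
          haveI : Nontrivial ↥(centralizer ({(⟨z, hz⟩ : H)} : Set H)) :=
            Finite.one_lt_card_iff_nontrivial.mp (by rw [hkb.hcard]; norm_num)
          refine ⟨hkb.hcard, ?_⟩
          rw [Monoid.exponent_eq_prime_iff Nat.prime_two]
          intro g hg
          apply orderOf_eq_prime
          · rw [pow_two]
            exact Subtype.ext (hkb.hexp g.1 g.2)
          · exact hg
        have hzo' : orderOf (⟨z, hz⟩ : H) = 2 := by
          rw [Subgroup.orderOf_mk]
          exact hzo
        obtain ⟨eA⟩ := Cfsg.Agent.S3278.result (⟨z, hz⟩ : H) hzo' (centralizer ({(⟨z, hz⟩ : H)} : Set H)) le_rfl hKlein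
          (by
            rw [Subgroup.relIndex_self]
            norm_num)
          (by
            rw [Subgroup.subgroupOf_self]
            infer_instance)
        have h60 : Nat.card H = 60 := by
          rw [Nat.card_congr eA.toEquiv, Nat.card_eq_fintype_card]
          decide +kernel
        exact s5_of h (by rw [hGc, h60]) hO H hHn hz hkc hnn hsimple
    · left
      push Not at hexp
      obtain ⟨x, hxC, hxH, hx2⟩ := hexp
      have hx4 : x ^ 4 = 1 := by
        have h1 := pow_card_eq_one' (x := (⟨⟨x, hxC⟩, Subgroup.mem_subgroupOf.mpr hxH⟩ :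
          H.subgroupOf (centralizer ({z} : Set G))))
        rw [← hs] at h1
        exact congrArg (fun y => y.1.1) h1
      exact hcen (central_of_cyclic hO h.hz1 h.hz H hHn hz hNc hbo hxH hx2 hx4)
  · -- contains the centralizer
    have hr1 : r = 1 := by omega
    rw [hr1] at hr
    have hle : centralizer ({z} : Set G) ≤ H := Subgroup.relIndex_eq_one.mp hr.symm
    have hperf : commutator G = ⊤ := h.frattini H hle
    haveI hsimple := h.simple_of_perfect hperf
    right; right; right
    rcases Cfsg.Agent.S0848.result hperf z hzo e with h168 | h360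
    · left
      exact iso_sl32 h168
    · right
      exact main_iso h360

end Cfsg.Agent.Lib.A6Rec
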