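import Cfsg.Agent.Lib.A6Rec.Action

/-!
# Involutions in the action on 10 Sylow 3-subgroups
-/

set_option autoImplicit false

namespace Cfsg.Agent.Lib.A6Rec

open Subgroup Cfsg.Agent.Lib.SmallSimple

variable {G : Type*} [Group G] [Finite G] [IsSimpleGroup G]

section fix

open scoped Classical

variable [Fintype (Sylow 3 G)]

/-- Fixed points. -/
noncomputable def fixF (g : G) : Finset (Sylow 3 G) := Finset.univ.filter (fun R => g • R = R)

theorem mem_fixF {g : G} {R : Sylow 3 G} : R ∈ fixF g ↔ g • R = R := by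
  simp [fixF]

theorem card_fixF (hG : Nat.card G = 360) {P Q : Sylow 3 G} (hne : P ≠ Q) {g : G} (hg : g ∈ T2 P Q) :
    (fixF g).card = 1 + Nat.card ↥((P : Subgroup G) ⊓ centralizer ({g} : Set G)) := by
  letI : Fintype ↥((P : Subgroup G) ⊓ centralizer ({g} : Set G)) := Fintype.ofFinite _
  obtain ⟨hgP, hgQ⟩ := mem_T2.mp hg
  have h1 : fixF g = insert P (Finset.univ.image
      (fun c : ↥((P : Subgroup G) ⊓ centralizer ({g} : Set G)) => c.1 • Q)) := by
    ext R
    rw [mem_fixF, Finset.mem_insert, Finset.mem_image]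
    constructor
    · intro hR
      by_cases hRP : R = P
      · exact Or.inl hRP
      · right
        obtain ⟨p, hp, rfl⟩ := exists_smul hG hne hRP
        rw [smul_smul_T2 hgQ] at hR
        have h2 := smul_inj hG hne (conj_mem hgP hp) hp hR
        refine ⟨⟨p, Subgroup.mem_inf.mpr ⟨hp, ?_⟩⟩, Finset.mem_univ _, rfl⟩
        rw [Subgroup.mem_centralizer_singleton_iff]
        rw [mul_inv_eq_iff_eq_mul] at h2
        exact h2.symm
    · rintro (rfl | ⟨c, -, rfl⟩)
      · exact hgP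
      · rw [smul_smul_T2 hgQ]
        have h3 : g * c.1 * g⁻¹ = c.1 := by
          have h4 := Subgroup.mem_centralizer_singleton_iff.mp c.2.2
          rw [mul_inv_eq_iff_eq_mul]
          exact h4.symm
        rw [h3]
  rw [h1, Finset.card_insert_of_notMem, Finset.card_image_of_injective, Finset.card_univ,
    Nat.card_eq_fintype_card]
  · ring
  · intro x y hxy
    exact Subtype.ext (smul_inj hG hne x.2.1 y.2.1 hxy)
  · intro hmem
    obtain ⟨c, -, hc⟩ := Finset.mem_image.mp hmem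
    exact smul_ne_of_ne hne c.2.1 hc

theorem card_support_add (hG : Nat.card G = 360) (g : G) :
    (MulAction.toPermHom G (Sylow 3 G) g).support.card + (fixF g).card = 10 := by
  have h1 : (MulAction.toPermHom G (Sylow 3 G) g).support = Finset.univ \ fixF g := by
    ext R
    rw [Equiv.Perm.mem_support, Finset.mem_sdiff, mem_fixF]
    simp
  rw [h1, Finset.card_sdiff_of_subset (Finset.subset_univ _), Finset.card_univ, ← Nat.card_eq_fintype_card,
    card_syl hG]
  have h2 := Finset.card_le_univ (fixF g)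
  rw [← Nat.card_eq_fintype_card, card_syl hG] at h2
  omega

theorem sigma_sq {a : G} (ha : a ^ 2 = 1) : (MulAction.toPermHom G (Sylow 3 G) a) ^ 2 = 1 := by
  rw [← map_pow, ha, map_one]

theorem invol_core (hG : Nat.card G = 360) {a : G} (ha : a ^ 2 = 1) (ha1 : a ≠ 1) {P Q : Sylow 3 G}
    (hne : P ≠ Q) (hT : a ∈ T2 P Q) :
    (P : Subgroup G) ⊓ centralizer ({a} : Set G) = ⊥ ∧ ∀ R : Sylow 3 G, a • R = R → R = P ∨ R = Q := by
  have h1 := card_fixF hG hne hT
  have h2 := card_support_add hG a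
  have h3 : Nat.card ↥((P : Subgroup G) ⊓ centralizer ({a} : Set G)) ∣ 9 := by
    rw [← card_sylow3 hG P]
    exact Subgroup.card_dvd_of_le inf_le_left
  have h4 : (Nat.divisors 9 : Finset ℕ) = {1, 3, 9} := by decide
  have h5 : Nat.card ↥((P : Subgroup G) ⊓ centralizer ({a} : Set G)) ∈ Nat.divisors 9 :=
    Nat.mem_divisors.mpr ⟨h3, by norm_num⟩
  rw [h4] at h5
  simp only [Finset.mem_insert, Finset.mem_singleton] at h5
  rcases h5 with h5 | h5 | h5
  · have hbot : (P : Subgroup G) ⊓ centralizer ({a} : Set G) = ⊥ :=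
      (Subgroup.eq_bot_iff_card _).mpr h5
    refine ⟨hbot, ?_⟩
    intro R hR
    rw [h5] at h1
    have hsub : ({P, Q} : Finset (Sylow 3 G)) ⊆ fixF a := by
      intro x hx
      rw [Finset.mem_insert, Finset.mem_singleton] at hx
      rw [mem_fixF]
      rcases hx with rfl | rfl
      · exact (mem_T2.mp hT).1
      · exact (mem_T2.mp hT).2
    have heq : ({P, Q} : Finset (Sylow 3 G)) = fixF a := by
      apply Finset.eq_of_subset_of_card_le hsub
      rw [h1, Finset.card_pair hne]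
    have hmem : R ∈ fixF a := mem_fixF.mpr hR
    rw [← heq, Finset.mem_insert, Finset.mem_singleton] at hmem
    exact hmem
  · exfalso
    rw [h5] at h1
    have h6 : (MulAction.toPermHom G (Sylow 3 G) a).support.card = 2 * 3 := by omega
    have h7 := Cfsg.Agent.Lib.Struct.SylowTwoP.sign_of_involution _ (sigma_sq ha) h6 (by decide)
    rw [sign_eq_one hG] at h7
    exact absurd h7 (by decide)
  · exfalso
    rw [h5] at h1
    have h6 : (MulAction.toPermHom G (Sylow 3 G) a).support.card = 0 := by omega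
    apply ha1
    apply eq_one_of_forall_smul hG
    intro R
    have h7 : R ∉ (MulAction.toPermHom G (Sylow 3 G) a).support := by
      rw [Finset.card_eq_zero.mp h6]
      exact Finset.notMem_empty R
    rw [Equiv.Perm.notMem_support] at h7
    exact h7

theorem invol_fix (hG : Nat.card G = 360) {a : G} (ha : a ^ 2 = 1) (ha1 : a ≠ 1) :
    ∃ P Q : Sylow 3 G, P ≠ Q ∧ a • P = P ∧ a • Q = Q := by
  have h1 := card_support_add hG a
  have h2 := Equiv.Perm.two_dvd_card_support (sigma_sq ha)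
  obtain ⟨k, hk⟩ := h2
  have h3 : k ≠ 5 := by
    intro h
    subst h
    have h7 := Cfsg.Agent.Lib.Struct.SylowTwoP.sign_of_involution _ (sigma_sq ha) hk (by decide)
    rw [sign_eq_one hG] at h7
    exact absurd h7 (by decide)
  have h4 : 1 < (fixF a).card := by omega
  obtain ⟨P, hP, Q, hQ, hne⟩ := Finset.one_lt_card.mp h4
  exact ⟨P, Q, hne, mem_fixF.mp hP, mem_fixF.mp hQ⟩

theorem exists_other_fix (hG : Nat.card G = 360) {a : G} (ha : a ^ 2 = 1) (ha1 : a ≠ 1) {P : Sylow 3 G}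
    (hP : a • P = P) : ∃ Q : Sylow 3 G, P ≠ Q ∧ a • Q = Q := by
  obtain ⟨P₁, Q₁, hne, h1, h2⟩ := invol_fix hG ha ha1
  by_cases h : P = P₁
  · exact ⟨Q₁, by rw [h]; exact hne, h2⟩
  · exact ⟨P₁, h, h1⟩

theorem inverts (hG : Nat.card G = 360) {a : G} (ha : a ^ 2 = 1) (ha1 : a ≠ 1) {P : Sylow 3 G}
    (hP : a • P = P) {p : G} (hp : p ∈ (P : Subgroup G)) : a * p * a⁻¹ = p⁻¹ := by
  obtain ⟨Q, hne, hQ⟩ := exists_other_fix hG ha ha1 hP
  have hT : a ∈ T2 P Q := mem_T2.mpr ⟨hP, hQ⟩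
  have h1 := (invol_core hG ha ha1 hne hT).1
  have hinv : a⁻¹ = a := by
    rw [inv_eq_iff_mul_eq_one, ← pow_two, ha]
  have hq := conj_mem hP hp
  have h2 : p * (a * p * a⁻¹) ∈ (P : Subgroup G) ⊓ centralizer ({a} : Set G) := by
    refine Subgroup.mem_inf.mpr ⟨P.1.mul_mem hp hq, ?_⟩
    rw [Subgroup.mem_centralizer_singleton_iff]
    have h3 : a * (p * (a * p * a⁻¹)) * a⁻¹ = p * (a * p * a⁻¹) := by
      have h4 : a * (p * (a * p * a⁻¹)) * a⁻¹ = (a * p * a⁻¹) * (a * (a * p * a⁻¹) * a⁻¹) := by group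
      have h5 : a * (a * p * a⁻¹) * a⁻¹ = p := by
        have h6 : a * (a * p * a⁻¹) * a⁻¹ = (a * a) * p * (a⁻¹ * a⁻¹) := by group
        rw [h6]
        have h7 : a * a = 1 := by rw [← pow_two, ha]
        have h8 : a⁻¹ * a⁻¹ = 1 := by rw [hinv, h7]
        rw [h7, h8]
        group
      rw [h4, h5]
      exact sylow3_comm hG P hq hp
    have h9 := mul_inv_eq_iff_eq_mul.mp h3
    exact h9.symm
  rw [h1, Subgroup.mem_bot] at h2
  exact (eq_inv_of_mul_eq_one_right h2)

theorem unique_invol (hG : Nat.card G = 360) {P Q : Sylow 3 G} (hne : P ≠ Q) {a a' : G}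
    (ha : a ^ 2 = 1) (ha1 : a ≠ 1) (ha' : a' ^ 2 = 1) (ha1' : a' ≠ 1) (hT : a ∈ T2 P Q) (hT' : a' ∈ T2 P Q) :
    a = a' := by
  have hc : ∀ p ∈ (P : Subgroup G), (a * a') * p * (a * a')⁻¹ = p := by
    intro p hp
    have h1 := inverts hG ha' ha1' (mem_T2.mp hT').1 hp
    have h2 := inverts hG ha ha1 (mem_T2.mp hT).1 (P.1.inv_mem hp)
    calc (a * a') * p * (a * a')⁻¹ = a * (a' * p * a'⁻¹) * a⁻¹ := by group
      _ = a * p⁻¹ * a⁻¹ := by rw [h1]
      _ = p⁻¹⁻¹ := h2
      _ = p := inv_inv p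
  have hT2 : a * a' ∈ T2 P Q := (T2 P Q).mul_mem hT hT'
  have h1 : a * a' = 1 := by
    apply eq_one_of_forall_smul hG
    intro R
    by_cases hR : R = P
    · rw [hR]
      exact (mem_T2.mp hT2).1
    · obtain ⟨p, hp, rfl⟩ := exists_smul hG hne hR
      rw [smul_smul_T2 (mem_T2.mp hT2).2, hc p hp]
  have hinv : a⁻¹ = a := by
    rw [inv_eq_iff_mul_eq_one, ← pow_two, ha]
  rw [← inv_eq_of_mul_eq_one_right h1, hinv]

theorem exists_invol (hG : Nat.card G = 360) {P Q : Sylow 3 G} (hne : P ≠ Q) :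
    ∃ a : G, a ^ 2 = 1 ∧ a ≠ 1 ∧ a ∈ T2 P Q := by
  have h1 := card_T2 hG hne
  haveI : Fact (Nat.Prime 2) := ⟨Nat.prime_two⟩
  obtain ⟨x, hx⟩ := exists_prime_orderOf_dvd_card' (G := ↥(T2 P Q)) 2 (by rw [h1]; norm_num)
  have h2 : orderOf (x : G) = 2 := by
    rw [Subgroup.orderOf_coe]
    exact hx
  refine ⟨x.1, ?_, ?_, x.2⟩
  · rw [← h2]
    exact pow_orderOf_eq_one _
  · intro h
    rw [h, orderOf_one] at h2
    omega

end fix

end Cfsg.Agent.Lib.A6Rec
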